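import Cfsg.Agent.H139.Cusp.Lift
import Cfsg.Agent.H139.Cusp.Vanish
import Mathlib.GroupTheory.GroupAction.Quotient
import Mathlib.LinearAlgebra.Charpoly.BaseChange
import Mathlib.RingTheory.TensorProduct.Finite

/-!
# The functions `kap` are generalized characters of general linear groups
-/

set_option autoImplicit false

open Polynomial Cfsg

namespace Cfsg.Agent.H139.Cusp

universe u v w

attribute [local instance] fintypeHom fintypeSub finite_quot

/-! ### sums over fixed points -/

section orbit

theorem isGeneralizedCharacter_sum {G : Type*} [Group G] {ι : Type*} (s : Finset ι) {f : ι → G → ℂ}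
    (h : ∀ i ∈ s, IsGeneralizedCharacter G (f i)) : IsGeneralizedCharacter G (fun g => ∑ i ∈ s, f i g) := by
  classical
  induction s using Finset.induction_on with
  | empty =>
    simp only [Finset.sum_empty]
    exact Characters.Brauer.isGeneralizedCharacter_zero
  | insert a s ha ih =>
    simp only [Finset.sum_insert ha]
    exact Characters.Brauer.isGeneralizedCharacter_add (h a (Finset.mem_insert_self _ _))
      (ih fun i hi => h i (Finset.mem_insert_of_mem hi))

theorem isGeneralizedCharacter_comp {G H : Type*} [Group G] [Group H] (f : H →* G) {χ : G → ℂ}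
    (hχ : IsGeneralizedCharacter G χ) : IsGeneralizedCharacter H (fun h => χ (f h)) := by
  obtain ⟨α, β, hα, hβ, rfl⟩ := hχ
  exact ⟨α ∘ f, β ∘ f, Characters.Core.isCharacter_comp f hα, Characters.Core.isCharacter_comp f hβ, rfl⟩

/-- A sum over the points of a `G`-set of compatible generalized characters of the stabilizers. -/
theorem isGeneralizedCharacter_points {G : Type*} [Group G] [Finite G] {Ω : Type*} [Fintype Ω]
    [MulAction G Ω] (k : G → Ω → ℂ) (hk : ∀ x g ω, k (x * g * x⁻¹) (x • ω) = k g ω)
    (hk0 : ∀ g ω, g • ω ≠ ω → k g ω = 0)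
    (hgen : ∀ ω, IsGeneralizedCharacter (MulAction.stabilizer G ω) (fun h => k h ω)) :
    IsGeneralizedCharacter G (fun g => ∑ ω, k g ω) := by
  classical
  have : Fintype G := Fintype.ofFinite G
  have : Fintype (MulAction.orbitRel.Quotient G Ω) := Fintype.ofFinite _
  have h1 : ∀ o : MulAction.orbitRel.Quotient G Ω, ∀ g : G,
      ∑ ω ∈ Finset.univ.filter (fun ω : Ω => (Quotient.mk'' ω : MulAction.orbitRel.Quotient G Ω) = o), k g ω =
        indFun (MulAction.stabilizer G o.out) (fun h => k h o.out) g := by
    intro o g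
    rw [Characters.Core.indFun_apply]
    have h2 : ∀ x : G, extendByZero (MulAction.stabilizer G o.out) (fun h => k h o.out) (x⁻¹ * g * x) =
        k g (x • o.out) := by
      intro x
      have h3 : k g (x • o.out) = k (x⁻¹ * g * x) o.out := by
        rw [← hk x (x⁻¹ * g * x) o.out]
        congr 1
        group
      rw [h3]
      by_cases hx : x⁻¹ * g * x ∈ MulAction.stabilizer G o.out
      · rw [Characters.Core.extendByZero_of_mem _ _ hx]
      · rw [Characters.Core.extendByZero_of_notMem _ _ hx, hk0]
        exact hx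
    rw [Finset.sum_congr rfl fun x _ => h2 x, Finset.sum_comp (fun ω => k g ω) (fun x : G => x • o.out)]
    have h4 : Finset.image (fun x : G => x • o.out) Finset.univ =
        Finset.univ.filter (fun ω : Ω => (Quotient.mk'' ω : MulAction.orbitRel.Quotient G Ω) = o) := by
      ext ω
      simp only [Finset.mem_image, Finset.mem_univ, true_and, Finset.mem_filter]
      have h5 : o = Quotient.mk'' o.out := (Quotient.out_eq' o).symm
      conv_rhs => rw [h5, Quotient.eq'']
      exact Iff.rfl
    have h6 : ∀ ω ∈ Finset.image (fun x : G => x • o.out) Finset.univ,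
        (Finset.univ.filter fun x : G => x • o.out = ω).card =
          Nat.card (MulAction.stabilizer G o.out) := by
      intro ω hω
      obtain ⟨x₀, -, rfl⟩ := Finset.mem_image.1 hω
      have h5 : Nat.card (MulAction.stabilizer G o.out) =
          (Finset.univ.filter fun x : G => x ∈ MulAction.stabilizer G o.out).card := by
        rw [Nat.card_eq_fintype_card]
        exact Fintype.card_subtype _
      rw [h5]
      refine Finset.card_nbij' (fun x => x₀⁻¹ * x) (fun x => x₀ * x) ?_ ?_ ?_ ?_
      · intro x hx
        rw [Finset.mem_coe, Finset.mem_filter] at hx ⊢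
        refine ⟨Finset.mem_univ _, ?_⟩
        rw [MulAction.mem_stabilizer_iff, mul_smul, hx.2, inv_smul_smul]
      · intro x hx
        rw [Finset.mem_coe, Finset.mem_filter] at hx ⊢
        refine ⟨Finset.mem_univ _, ?_⟩
        rw [mul_smul, MulAction.mem_stabilizer_iff.1 hx.2]
      · intro x _
        exact mul_inv_cancel_left x₀ x
      · intro x _
        exact inv_mul_cancel_left x₀ x
    rw [Finset.sum_congr rfl fun ω hω => congrArg (· • _) (h6 ω hω), ← Finset.smul_sum, nsmul_eq_mul,
      inv_mul_cancel_left₀ (Nat.cast_ne_zero.2 Nat.card_pos.ne'), h4]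
  refine isGeneralizedCharacter_congr (isGeneralizedCharacter_sum Finset.univ
    fun (o : MulAction.orbitRel.Quotient G Ω) _ =>
      Characters.Brauer.isGeneralizedCharacter_indFun _ (hgen o.out)) fun g => ?_
  rw [← Finset.sum_fiberwise Finset.univ (fun ω : Ω => (Quotient.mk'' ω : MulAction.orbitRel.Quotient G Ω))]
  exact Finset.sum_congr rfl fun o _ => h1 o g

end orbit

/-! ### the lift of the characteristic polynomial -/

section

variable {F : Type u} [Field F] (K : Type w) [Field K] [Algebra F K] (θ : K →*₀ ℂ)

/-- sum of the lifts of the roots of a polynomial -/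
noncomputable def lb (h : F[X]) : ℂ := ((h.map (algebraMap F K)).roots.map θ).sum

theorem lb_mul (p q : F[X]) (hp : p.Monic) (hq : q.Monic) : lb K θ (p * q) = lb K θ p + lb K θ q := by
  rw [lb, Polynomial.map_mul, roots_mul (mul_ne_zero (hp.map _).ne_zero (hq.map _).ne_zero),
    Multiset.map_add, Multiset.sum_add]
  rfl

open TensorProduct in
theorem lb_generalized (hθ : Function.Injective θ) {n : ℕ}
    (hK : ∀ h : F[X], h.Monic → h.natDegree ≤ n → (h.map (algebraMap F K)).Splits)
    (V : Type v) [AddCommGroup V] [Module F V] [Finite V] (hV : Module.finrank F V ≤ n) :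
    IsGeneralizedCharacter (V →ₗ[F] V)ˣ (fun g => lb K θ (LinearMap.charpoly (g : V →ₗ[F] V))) := by
  have : Finite (V →ₗ[F] V) := DFunLike.finite _
  have : Finite (V →ₗ[F] V)ˣ := inferInstance
  let ρ : Representation K (V →ₗ[F] V)ˣ (K ⊗[F] V) :=
    ((Module.End.baseChangeHom F K V : Module.End F V →ₐ[F] Module.End K (K ⊗[F] V)) :
      Module.End F V →* Module.End K (K ⊗[F] V)).comp (Units.coeHom (V →ₗ[F] V))
  have hρ : ∀ g, LinearMap.charpoly (ρ g) = (LinearMap.charpoly (g : V →ₗ[F] V)).map (algebraMap F K) := by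
    intro g
    exact LinearMap.charpoly_baseChange (g : V →ₗ[F] V) K
  refine isGeneralizedCharacter_congr (lift_generalized θ hθ (V →ₗ[F] V)ˣ (K ⊗[F] V) ρ fun g => ?_) fun g => ?_
  · rw [hρ]
    exact hK _ (LinearMap.charpoly_monic _) (by rw [LinearMap.charpoly_natDegree]; exact hV)
  · rw [bl, hρ]
    rfl

/-- The functions `kap B` are generalized characters if `B` of the characteristic polynomial is. -/
theorem kap_generalized_of (B : F[X] → ℂ) {n : ℕ}
    (hgen : ∀ (V : Type v) [AddCommGroup V] [Module F V] [Finite V], Module.finrank F V ≤ n →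
      IsGeneralizedCharacter (V →ₗ[F] V)ˣ (fun g => B (LinearMap.charpoly (g : V →ₗ[F] V))))
    (d : ℕ) (hd : d ≤ n) :
    ∀ (V : Type v) [AddCommGroup V] [Module F V] [Finite V], Module.finrank F V = d →
    IsGeneralizedCharacter (V →ₗ[F] V)ˣ (fun g => kap B (g : V →ₗ[F] V) ⊤) := by
  induction d using Nat.strong_induction_on with
  | _ d ih =>
    intro V _ _ _ hV
    classical
    have : Finite (V →ₗ[F] V) := DFunLike.finite _
    have : Finite (V →ₗ[F] V)ˣ := inferInstance
    let act : MulAction (V →ₗ[F] V)ˣ (Submodule F V) :=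
      { smul := fun g W => W.map (g : V →ₗ[F] V)
        one_smul := fun W => Submodule.map_id W
        mul_smul := fun g h W => Submodule.map_comp (h : V →ₗ[F] V) (g : V →ₗ[F] V) W }
    have hsm : ∀ (g : (V →ₗ[F] V)ˣ) (W : Submodule F V), g • W = W.map (g : V →ₗ[F] V) := fun _ _ => rfl
    have hinv : ∀ (g : (V →ₗ[F] V)ˣ) (v : V), (g : V →ₗ[F] V) (((g⁻¹ : (V →ₗ[F] V)ˣ) : V →ₗ[F] V) v) = v := by
      intro g v
      rw [← Module.End.mul_apply, ← Units.val_mul, mul_inv_cancel]
      rfl
    have hinv' : ∀ (g : (V →ₗ[F] V)ˣ) (v : V), ((g⁻¹ : (V →ₗ[F] V)ˣ) : V →ₗ[F] V) ((g : V →ₗ[F] V) v) = v := by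
      intro g v
      rw [← Module.End.mul_apply, ← Units.val_mul, inv_mul_cancel]
      rfl
    have hinj : ∀ g : (V →ₗ[F] V)ˣ, Function.Injective (g : V →ₗ[F] V) := by
      intro g v v' h
      rw [← hinv' g v, h, hinv' g]
    have htop : ∀ g : (V →ₗ[F] V)ˣ, g • (⊤ : Submodule F V) = ⊤ := by
      intro g
      rw [hsm, Submodule.map_top, LinearMap.range_eq_top]
      exact fun v => ⟨_, hinv g v⟩
    let k : (V →ₗ[F] V)ˣ → Submodule F V → ℂ := fun g W =>
      if W = ⊤ then 0 else kap B (g : V →ₗ[F] V) W
    have hkey : IsGeneralizedCharacter (V →ₗ[F] V)ˣ (fun g => ∑ W, k g W) := by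
      refine isGeneralizedCharacter_points k ?_ ?_ ?_
      · intro x g W
        have h1 : x • W = ⊤ ↔ W = ⊤ := by
          constructor
          · intro h
            rw [← inv_smul_smul x W, h, htop]
          · rintro rfl
            exact htop x
        show (if x • W = ⊤ then 0 else _) = if W = ⊤ then 0 else _
        rw [if_congr h1 rfl rfl]
        split_ifs with hW
        · rfl
        · exact kap_map B (x : V →ₗ[F] V) (hinj x) (g := g) (g' := (x * g * x⁻¹ : (V →ₗ[F] V)ˣ))
            (fun v => by
              rw [Units.val_mul, Units.val_mul, Module.End.mul_apply, Module.End.mul_apply, hinv']) W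
      · intro g W hW
        show (if W = ⊤ then 0 else _) = (0 : ℂ)
        split_ifs with hWt
        · rfl
        · refine kap_of_not _ fun h => hW ?_
          rw [hsm]
          apply Submodule.eq_of_le_of_finrank_eq (Submodule.map_le_iff_le_comap.2 h)
          exact (Submodule.equivMapOfInjective (g : V →ₗ[F] V) (hinj g) W).finrank_eq.symm
      · intro W
        by_cases hWt : W = ⊤
        · refine isGeneralizedCharacter_congr Characters.Brauer.isGeneralizedCharacter_zero fun h => ?_
          show (if W = ⊤ then 0 else _) = (0 : ℂ)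
          rw [if_pos hWt]
        · have hlt : Module.finrank F W < d := hV ▸ Submodule.finrank_lt hWt
          have hgen1 := ih _ hlt (hlt.le.trans hd) W rfl
          have hst : ∀ h : MulAction.stabilizer (V →ₗ[F] V)ˣ W, W ≤ W.comap ((h : (V →ₗ[F] V)ˣ) : V →ₗ[F] V) := by
            intro h x hx
            have h1 : ((h : (V →ₗ[F] V)ˣ)) • W = W := h.2
            rw [hsm] at h1
            have h2 := Submodule.mem_map_of_mem (f := ((h : (V →ₗ[F] V)ˣ) : V →ₗ[F] V)) hx
            rwa [h1] at h2
          let res : MulAction.stabilizer (V →ₗ[F] V)ˣ W →* (W →ₗ[F] W) :=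
            { toFun := fun h => ((h : (V →ₗ[F] V)ˣ) : V →ₗ[F] V).restrict (hst h)
              map_one' := rfl
              map_mul' := fun _ _ => rfl }
          refine isGeneralizedCharacter_congr (isGeneralizedCharacter_comp (MonoidHom.toHomUnits res) hgen1)
            fun h => ?_
          show (if W = ⊤ then 0 else _) = _
          rw [if_neg hWt, kap_eq_top B (hst h)]
          rfl
    refine isGeneralizedCharacter_congr (Characters.Brauer.isGeneralizedCharacter_sub
      (hgen V (hV ▸ hd)) hkey) fun g => ?_
    show kap B (g : V →ₗ[F] V) ⊤ = B (LinearMap.charpoly (g : V →ₗ[F] V)) -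
      ∑ W : Submodule F V, if W = ⊤ then 0 else kap B (g : V →ₗ[F] V) W
    rw [← kap_sum_top B (g : V →ₗ[F] V), ← Finset.sum_sub_distrib]
    rw [Finset.sum_eq_single (⊤ : Submodule F V)]
    · rw [if_pos rfl, sub_zero]
    · intro W _ hW
      rw [if_neg hW, sub_self]
    · intro h
      exact absurd (Finset.mem_univ _) h

/-- The functions `kap` are generalized characters. -/
theorem kap_generalized (hθ : Function.Injective θ) {n : ℕ}
    (hK : ∀ h : F[X], h.Monic → h.natDegree ≤ n → (h.map (algebraMap F K)).Splits) (d : ℕ) (hd : d ≤ n)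
    (V : Type v) [AddCommGroup V] [Module F V] [Finite V] (hV : Module.finrank F V = d) :
    IsGeneralizedCharacter (V →ₗ[F] V)ˣ (fun g => kap (lb K θ) (g : V →ₗ[F] V) ⊤) :=
  kap_generalized_of (lb K θ) (fun V _ _ _ hV => lb_generalized K θ hθ hK V hV) d hd V hV

end

end Cfsg.Agent.H139.Cusp
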