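import Cfsg.Agent.H139.Cusp.Inner
import Cfsg.Agent.H139.Cusp.Virtual
import Mathlib.FieldTheory.Finite.Extension
import Mathlib.FieldTheory.Perfect

/-!
# The pairing as a sum over a finite field
-/

set_option autoImplicit false

open Polynomial
open scoped ComplexConjugate

namespace Cfsg.Agent.H139.Cusp

universe u w

section

variable {F : Type u} [Field F] [Finite F] {K : Type w} [Field K] [Finite K] [Algebra F K]

omit [Finite F] in
theorem integral_of_finite (l : K) : IsIntegral F l :=
  have : Module.Finite F K := Module.Finite.of_finite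
  IsIntegral.of_finite F l

theorem pow_eq_self_iff (l : K) (m : ℕ) :
    l ^ (Nat.card F ^ m) = l ↔ (minpoly F l).natDegree ∣ m := by
  rw [(minpoly.irreducible (integral_of_finite l)).natDegree_dvd_iff_dvd_X_pow_card_pow_sub_X]
  rw [minpoly.dvd_iff, map_sub, map_pow, aeval_X, sub_eq_zero]

omit [Finite K] in
theorem aeval_pow_card (p : F[X]) (l : K) (j : ℕ) :
    aeval (l ^ (Nat.card F ^ j)) p = (aeval l p) ^ (Nat.card F ^ j) := by
  have : Fintype F := Fintype.ofFinite F
  induction j with
  | zero => rw [pow_zero, pow_one, pow_one]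
  | succ j ih =>
    rw [pow_succ, pow_mul, pow_mul, ← ih]
    have h := Polynomial.aeval_algHom_apply (FiniteField.frobeniusAlgHom F K) (l ^ Nat.card F ^ j) p
    rw [FiniteField.coe_frobeniusAlgHom, ← Nat.card_eq_fintype_card] at h
    exact h

omit [Finite K] in
theorem pow_card_injective (j : ℕ) : Function.Injective (fun l : K => l ^ (Nat.card F ^ j)) := by
  have : Fintype F := Fintype.ofFinite F
  induction j with
  | zero =>
    intro a b h
    simpa using h
  | succ j ih =>
    intro a b h
    apply ih
    simp only [pow_succ, pow_mul] at h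
    have h1 : Function.Injective (FiniteField.frobeniusAlgHom F K) := RingHom.injective _
    rw [FiniteField.coe_frobeniusAlgHom, ← Nat.card_eq_fintype_card] at h1
    exact h1 h

/-- the roots of a minimal polynomial -/
theorem roots_minpoly (l : K) :
    ((minpoly F l).map (algebraMap F K)).roots =
      (Multiset.range (minpoly F l).natDegree).map fun i => l ^ (Nat.card F ^ i) := by
  have hne : (minpoly F l).map (algebraMap F K) ≠ 0 :=
    ((minpoly.monic (integral_of_finite l)).map _).ne_zero
  symm
  have hnodup : ((Multiset.range (minpoly F l).natDegree).map fun i => l ^ (Nat.card F ^ i)).Nodup := by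
    rw [Multiset.nodup_map_iff_inj_on (Multiset.nodup_range _)]
    have key : ∀ i j, i ≤ j → j < (minpoly F l).natDegree → l ^ (Nat.card F ^ i) = l ^ (Nat.card F ^ j) →
        i = j := by
      intro i j hij hj h
      obtain ⟨k, rfl⟩ := Nat.exists_eq_add_of_le hij
      rw [add_comm i k, pow_add, pow_mul] at h
      have h1 := pow_card_injective (F := F) (K := K) i h
      have h2 := (pow_eq_self_iff l k).1 h1.symm
      have h3 := Nat.eq_zero_of_dvd_of_lt h2 (by omega)
      omega
    intro i hi j hj h
    rw [Multiset.mem_range] at hi hj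
    rcases le_total i j with hij | hij
    · exact key i j hij hj h
    · exact (key j i hij hi h.symm).symm
  refine Multiset.eq_of_le_of_card_le ?_ ?_
  · rw [Multiset.le_iff_subset hnodup]
    intro x hx
    obtain ⟨i, -, rfl⟩ := Multiset.mem_map.1 hx
    rw [mem_roots hne, IsRoot.def, eval_map_algebraMap, aeval_pow_card, minpoly.aeval,
      zero_pow (pow_ne_zero _ Nat.card_pos.ne')]
  · rw [Multiset.card_map, Multiset.card_range]
    refine (card_roots' _).trans ?_
    rw [natDegree_map]

theorem lb_minpoly (θ : K →*₀ ℂ) (l : K) :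
    lb K θ (minpoly F l) = ∑ i ∈ Finset.range (minpoly F l).natDegree, θ (l ^ (Nat.card F ^ i)) := by
  rw [lb, roots_minpoly, Multiset.map_map]
  rfl

/-- the sum of the lifts of the conjugates -/
noncomputable def conjSum (F : Type u) {K : Type w} [Field K] (θ : K →*₀ ℂ) (n : ℕ) (l : K) : ℂ :=
  ∑ i ∈ Finset.range n, θ (l ^ (Nat.card F ^ i))

theorem conjSum_eq (θ : K →*₀ ℂ) (l : K) (m : ℕ) :
    conjSum F θ ((minpoly F l).natDegree * m) l = m * lb K θ (minpoly F l) := by
  rw [lb_minpoly, conjSum]
  induction m with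
  | zero => simp
  | succ m ih =>
    rw [mul_add, mul_one, Finset.sum_range_add, ih]
    have h : ∀ i, θ (l ^ (Nat.card F ^ ((minpoly F l).natDegree * m + i))) = θ (l ^ (Nat.card F ^ i)) := by
      intro i
      rw [pow_add, pow_mul, (pow_eq_self_iff l _).2 (dvd_mul_right _ _)]
    rw [Finset.sum_congr rfl fun i _ => h i]
    push_cast
    ring

omit [Finite F] [Finite K] in
theorem lb_one (θ : K →*₀ ℂ) : lb K θ (1 : F[X]) = 0 := by
  rw [lb, Polynomial.map_one, roots_one]
  rfl

omit [Finite F] [Finite K] in
theorem lb_pow (θ : K →*₀ ℂ) {f : F[X]} (hf : f.Monic) (m : ℕ) : lb K θ (f ^ m) = m * lb K θ f := by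
  induction m with
  | zero => rw [pow_zero, lb_one]; simp
  | succ m ih =>
    rw [pow_succ, lb_mul K θ _ _ (hf.pow m) hf, ih]
    push_cast
    ring

/-- a power of the minimal polynomial, of degree `n` -/
noncomputable def hpoly (F : Type u) [Field F] {K : Type w} [Field K] [Algebra F K] (n : ℕ) (l : K) : F[X] :=
  minpoly F l ^ (n / (minpoly F l).natDegree)

theorem dvd_of_mem {n : ℕ} {l : K} (hl : l ^ (Nat.card F ^ n) = l) : (minpoly F l).natDegree ∣ n :=
  (pow_eq_self_iff l n).1 hl

omit [Finite F] in
theorem natDegree_pos' (l : K) : 0 < (minpoly F l).natDegree := minpoly.natDegree_pos (integral_of_finite l)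

theorem hpoly_spec {n : ℕ} {l : K} (hl : l ^ (Nat.card F ^ n) = l) :
    (hpoly F n l).Monic ∧ (hpoly F n l).natDegree = n := by
  have hm := minpoly.monic (integral_of_finite (F := F) l)
  refine ⟨hm.pow _, ?_⟩
  rw [hpoly, hm.natDegree_pow, Nat.div_mul_cancel (dvd_of_mem hl)]

theorem lb_hpoly (θ : K →*₀ ℂ) {n : ℕ} {l : K} (hl : l ^ (Nat.card F ^ n) = l) :
    lb K θ (hpoly F n l) = conjSum F θ n l := by
  rw [hpoly, lb_pow θ (minpoly.monic (integral_of_finite l)), ← conjSum_eq,
    Nat.mul_div_cancel' (dvd_of_mem hl)]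

open Classical in
/-- **The sum over polynomials as a sum over the multiplicative group of the extension.** -/
theorem sum_monN (θ θ' : K →*₀ ℂ) {n : ℕ} (hn : 0 < n)
    (hK : ∀ h : F[X], h.Monic → h.natDegree ≤ n → (h.map (algebraMap F K)).Splits)
    [Fintype K] [Fintype (MonN F n)] :
    (n : ℂ) * ∑ h : MonN F n, kapR (lb K θ) h.1 h.2.1 *
      (if h.1.coeff 0 ≠ 0 then conj (lb K θ' h.1) else 0) =
    ∑ l ∈ Finset.univ.filter (fun l : K => l ^ (Nat.card F ^ n) = l ∧ l ≠ 0),
      conjSum F θ n l * conj (conjSum F θ' n l) := by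
  have h1 : ∀ l ∈ Finset.univ.filter (fun l : K => l ^ (Nat.card F ^ n) = l ∧ l ≠ 0),
      conjSum F θ n l * conj (conjSum F θ' n l) = ∑ h : MonN F n,
        if hpoly F n l = h.1 then lb K θ h.1 * conj (lb K θ' h.1) else 0 := by
    intro l hl
    have hl' := (Finset.mem_filter.1 hl).2.1
    rw [Finset.sum_eq_single (⟨hpoly F n l, hpoly_spec hl'⟩ : MonN F n)]
    · rw [if_pos rfl, lb_hpoly θ hl', lb_hpoly θ' hl']
    · intro h _ hne
      rw [if_neg]
      intro h2
      exact hne (Subtype.ext h2.symm)
    · intro h
      exact absurd (Finset.mem_univ _) h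
  rw [Finset.sum_congr rfl h1, Finset.sum_comm, Finset.mul_sum]
  refine Finset.sum_congr rfl fun h _ => ?_
  rw [← Finset.sum_filter, Finset.sum_const, nsmul_eq_mul, Finset.filter_filter]
  obtain ⟨h, hmon, hdeg⟩ := h
  show (n : ℂ) * (kapR (lb K θ) h hmon * _) = _
  by_cases hc : h.coeff 0 = 0
  · -- no such `l`
    have h2 : Finset.univ.filter (fun l : K => (l ^ (Nat.card F ^ n) = l ∧ l ≠ 0) ∧ hpoly F n l = h) = ∅ := by
      rw [Finset.filter_eq_empty_iff]
      rintro l - ⟨⟨h3, h4⟩, h5⟩
      rw [← h5, hpoly, coeff_zero_eq_eval_zero, eval_pow] at hc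
      have h6 := eq_zero_of_pow_eq_zero hc
      rw [← coeff_zero_eq_eval_zero] at h6
      exact h4 ((minpoly.coeff_zero_eq_zero (integral_of_finite l)).1 h6)
    rw [h2, if_neg (not_not.2 hc), Finset.card_empty]
    simp
  · rw [if_pos hc]
    rcases kapR_eq_zero_or (lb K θ) (lb_mul K θ) hmon (by omega) with ⟨f, m, hf, hirr, hm, hfm⟩ | h0
    · subst hfm
      have hdm : m * f.natDegree = n := by rw [← hdeg, hf.natDegree_pow]
      have hfdn : f.natDegree ≤ n := by rw [← hdm]; exact Nat.le_mul_of_pos_left _ hm
      -- the set is the set of roots of `f`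
      have hroot : ∀ l : K, (aeval l f = 0) ↔
          ((l ^ (Nat.card F ^ n) = l ∧ l ≠ 0) ∧ hpoly F n l = f ^ m) := by
        intro l
        constructor
        · intro h3
          have h4 : f = minpoly F l := minpoly.eq_of_irreducible_of_monic hirr h3 hf
          refine ⟨⟨?_, ?_⟩, ?_⟩
          · rw [pow_eq_self_iff, ← h4, ← hdm]
            exact dvd_mul_left _ _
          · rintro rfl
            apply hc
            rw [coeff_zero_eq_eval_zero, eval_pow, ← coeff_zero_eq_eval_zero]
            rw [← coeff_zero_eq_aeval_zero'] at h3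
            have : f.coeff 0 = 0 := (algebraMap F K).injective (by rw [h3, map_zero])
            rw [this, zero_pow hm.ne']
          · rw [hpoly, ← h4, ← hdm, Nat.mul_div_cancel _ hirr.natDegree_pos]
        · rintro ⟨⟨h3, -⟩, h4⟩
          have h5 : minpoly F l ∣ f ^ m := by
            rw [← h4, hpoly]
            refine dvd_pow_self _ ?_
            have := Nat.div_pos (Nat.le_of_dvd hn (dvd_of_mem h3)) (natDegree_pos' l)
            omega
          have h6 : minpoly F l ∣ f :=
            (minpoly.irreducible (integral_of_finite l)).prime.dvd_of_dvd_pow h5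
          obtain ⟨c, hc⟩ := h6
          rw [hc, map_mul, minpoly.aeval, zero_mul]
      have hsp := hK f hf hfdn
      have hdeg0 : (f.map (algebraMap F K)).degree ≠ 0 := by
        rw [degree_map, degree_eq_natDegree hf.ne_zero]
        exact_mod_cast hirr.natDegree_pos.ne'
      obtain ⟨l, hl⟩ := hsp.exists_eval_eq_zero hdeg0
      rw [eval_map_algebraMap] at hl
      have hfl : f = minpoly F l := minpoly.eq_of_irreducible_of_monic hirr hl hf
      have hnodup : (f.map (algebraMap F K)).roots.Nodup := by
        rw [hfl]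
        have : (f.map (algebraMap F K)).Separable := (PerfectField.separable_of_irreducible hirr).map
        rw [hfl] at this
        exact nodup_roots this
      have hcard : (Finset.univ.filter
          (fun l : K => (l ^ (Nat.card F ^ n) = l ∧ l ≠ 0) ∧ hpoly F n l = f ^ m)).card = f.natDegree := by
        have h7 : Finset.univ.filter (fun l : K => (l ^ (Nat.card F ^ n) = l ∧ l ≠ 0) ∧ hpoly F n l = f ^ m) =
            (f.map (algebraMap F K)).roots.toFinset := by
          ext x
          rw [Finset.mem_filter, Multiset.mem_toFinset, mem_roots (hf.map _).ne_zero, IsRoot.def,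
            eval_map_algebraMap, hroot x]
          simp
        rw [h7, Multiset.toFinset_card_of_nodup hnodup, ← hsp.natDegree_eq_card_roots, natDegree_map]
      have hn' : (n : ℂ) = m * f.natDegree := by
        rw [← hdm]
        push_cast
        rfl
      rw [hcard, kapR_pow (lb K θ) (lb_mul K θ) hf hirr hm, lb_pow θ hf, hn']
      ring
    · rw [h0, zero_mul, mul_zero]
      by_cases hkap : ∃ l : K, (l ^ (Nat.card F ^ n) = l ∧ l ≠ 0) ∧ hpoly F n l = h
      · obtain ⟨l, ⟨h3, -⟩, h4⟩ := hkap
        subst h4
        have h5 := kapR_pow (lb K θ) (lb_mul K θ) (minpoly.monic (integral_of_finite (F := F) l))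
          (minpoly.irreducible (integral_of_finite l)) (m := n / (minpoly F l).natDegree)
          (Nat.div_pos (Nat.le_of_dvd hn (dvd_of_mem h3)) (natDegree_pos' l))
        have h6 : lb K θ (minpoly F l) = 0 := by
          rw [← h5]
          exact h0
        have h7 : lb K θ (hpoly F n l) = 0 := by
          rw [hpoly, lb_pow θ (minpoly.monic (integral_of_finite l)), h6, mul_zero]
        rw [h7, zero_mul, mul_zero]
      · have h2 : Finset.univ.filter (fun l : K => (l ^ (Nat.card F ^ n) = l ∧ l ≠ 0) ∧ hpoly F n l = h) = ∅ := by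
          rw [Finset.filter_eq_empty_iff]
          intro l _ h3
          exact hkap ⟨l, h3⟩
        rw [h2, Finset.card_empty]
        simp

end

end Cfsg.Agent.H139.Cusp
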