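import Cfsg.Agent.H139.Cusp.FieldSum
import Mathlib.RingTheory.RootsOfUnity.Complex
import Mathlib.RingTheory.RootsOfUnity.PrimitiveRoots
import Mathlib.GroupTheory.SpecificGroups.Cyclic

/-!
# Orthogonality on the multiplicative group of a finite field
-/

set_option autoImplicit false

open Polynomial
open scoped ComplexConjugate

namespace Cfsg.Agent.H139.Cusp

universe u w

section

variable {K : Type w} [Field K] [Finite K]

/-- an injective multiplicative map to the complex numbers -/
theorem exists_theta (K : Type w) [Field K] [Finite K] : ∃ θ : K →*₀ ℂ, Function.Injective θ := by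
  classical
  have h0 : NeZero (Nat.card Kˣ) := ⟨Nat.card_pos.ne'⟩
  let e : Kˣ ≃* rootsOfUnity (Nat.card Kˣ) ℂ :=
    mulEquivOfCyclicCardEq (Complex.card_rootsOfUnity _).symm
  let f : Kˣ →* ℂˣ := (rootsOfUnity (Nat.card Kˣ) ℂ).subtype.comp e.toMonoidHom
  have hf : Function.Injective f := Subtype.val_injective.comp e.injective
  refine ⟨{ toFun := fun x => if h : x = 0 then 0 else (f (Units.mk0 x h) : ℂ)
            map_zero' := dif_pos rfl
            map_one' := ?_
            map_mul' := ?_ }, ?_⟩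
  · rw [dif_neg one_ne_zero]
    have : Units.mk0 (1 : K) one_ne_zero = 1 := Units.ext rfl
    rw [this, map_one]
    rfl
  · intro x y
    by_cases hx : x = 0
    · simp [hx]
    · by_cases hy : y = 0
      · simp [hy]
      · rw [dif_neg hx, dif_neg hy, dif_neg (mul_ne_zero hx hy), ← Units.val_mul, ← map_mul]
        congr 2
        exact Units.ext rfl
  · intro x y hxy
    change (if h : x = 0 then (0 : ℂ) else (f (Units.mk0 x h) : ℂ)) =
      (if h : y = 0 then (0 : ℂ) else (f (Units.mk0 y h) : ℂ)) at hxy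
    by_cases hx : x = 0
    · by_cases hy : y = 0
      · rw [hx, hy]
      · rw [dif_pos hx, dif_neg hy] at hxy
        exact absurd hxy.symm (Units.ne_zero _)
    · by_cases hy : y = 0
      · rw [dif_neg hx, dif_pos hy] at hxy
        exact absurd hxy (Units.ne_zero _)
      · rw [dif_neg hx, dif_neg hy] at hxy
        have := hf (Units.ext hxy)
        exact congrArg Units.val this

/-- the power of a multiplicative map -/
noncomputable def powTheta (θ : K →*₀ ℂ) (a : ℕ) (ha : a ≠ 0) : K →*₀ ℂ where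
  toFun x := θ x ^ a
  map_zero' := by rw [map_zero, zero_pow ha]
  map_one' := by rw [map_one, one_pow]
  map_mul' x y := by rw [map_mul, mul_pow]

omit [Finite K] in
theorem powTheta_apply (θ : K →*₀ ℂ) (a : ℕ) (ha : a ≠ 0) (x : K) : powTheta θ a ha x = θ x ^ a := rfl

omit [Finite K] in
theorem powTheta_injective {θ : K →*₀ ℂ} (hθ : Function.Injective θ) {a : ℕ} (ha : a ≠ 0)
    (hc : (Nat.card Kˣ).Coprime a) : Function.Injective (powTheta θ a ha) := by
  intro x y hxy
  rw [powTheta_apply, powTheta_apply, ← map_pow, ← map_pow] at hxy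
  have h1 := hθ hxy
  by_cases hx : x = 0
  · rw [hx, zero_pow ha] at h1
    rw [hx, eq_zero_of_pow_eq_zero h1.symm]
  · by_cases hy : y = 0
    · rw [hy, zero_pow ha] at h1
      exact absurd (eq_zero_of_pow_eq_zero h1) hx
    · have h2 : (Units.mk0 x hx) ^ a = (Units.mk0 y hy) ^ a := Units.ext h1
      have h3 := (powCoprime hc).injective (a₁ := Units.mk0 x hx) (a₂ := Units.mk0 y hy) h2
      exact congrArg Units.val h3

open Classical in
/-- orthogonality on a subgroup of the multiplicative group -/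
theorem sum_theta {θ : K →*₀ ℂ} (hθ : Function.Injective θ) [Fintype K] {M : ℕ} (hM : 0 < M)
    (hdvd : M ∣ Nat.card Kˣ) (s t : ℕ) :
    ∑ l ∈ Finset.univ.filter (fun l : K => l ^ M = 1), θ l ^ s * conj (θ l ^ t) =
      if s ≡ t [MOD M] then (M : ℂ) else 0 := by
  obtain ⟨g₀, hg₀⟩ := IsCyclic.exists_ofOrder_eq_natCard (α := Kˣ)
  have hg₁ : orderOf (g₀ ^ (orderOf g₀ / M)) = M :=
    orderOf_pow_orderOf_div (by rw [hg₀]; exact Nat.card_pos.ne') (by rw [hg₀]; exact hdvd)
  set u := g₀ ^ (orderOf g₀ / M)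
  set g : K := (u : K)
  have hg : orderOf g = M := by rw [← hg₁]; exact orderOf_units
  have hprim : IsPrimitiveRoot g M := hg ▸ IsPrimitiveRoot.orderOf g
  have hset : Finset.univ.filter (fun l : K => l ^ M = 1) = nthRootsFinset M (1 : K) := by
    ext l
    rw [Finset.mem_filter, mem_nthRootsFinset hM]
    simp
  have hnorm : ∀ l : K, l ^ M = 1 → ‖θ l‖ = 1 := by
    intro l hl
    have h1 : (θ l) ^ M = 1 := by rw [← map_pow, hl, map_one]
    have h2 : ‖θ l‖ ^ M = 1 := by rw [← norm_pow, h1, norm_one]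
    exact (pow_eq_one_iff_of_nonneg (norm_nonneg _) hM.ne').1 h2
  have hconj : ∀ l : K, l ^ M = 1 → conj (θ l ^ t) = (θ l ^ t)⁻¹ := by
    intro l hl
    rw [Complex.inv_eq_conj]
    rw [norm_pow, hnorm l hl, one_pow]
  split_ifs with hst
  · have h1 : ∀ l ∈ Finset.univ.filter (fun l : K => l ^ M = 1), θ l ^ s * conj (θ l ^ t) = 1 := by
      intro l hl
      have hl' := (Finset.mem_filter.1 hl).2
      have h2 : θ l ^ s = θ l ^ t := by
        rw [← map_pow, ← map_pow]
        congr 1
        exact pow_eq_pow_of_modEq hst hl'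
      rw [hconj l hl', h2, mul_inv_cancel₀]
      intro h0
      have := hnorm l hl'
      rw [eq_zero_of_pow_eq_zero h0, norm_zero] at this
      exact zero_ne_one this
    rw [Finset.sum_congr rfl h1, Finset.sum_const, hset, hprim.card_nthRootsFinset]
    simp
  · have hφ : θ g ^ s * conj (θ g ^ t) ≠ 1 := by
      rw [hconj g (hg ▸ pow_orderOf_eq_one g)]
      intro h1
      apply hst
      have h0 : θ g ^ t ≠ 0 := by
        intro h0
        rw [h0, inv_zero, mul_zero] at h1
        exact zero_ne_one h1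
      rw [mul_inv_eq_one₀ h0, ← map_pow, ← map_pow] at h1
      have h2 := hθ h1
      have h3 : u ^ s = u ^ t := Units.ext h2
      rw [pow_eq_pow_iff_modEq, hg₁] at h3
      exact h3
    have hmul : ∑ l ∈ Finset.univ.filter (fun l : K => l ^ M = 1), θ l ^ s * conj (θ l ^ t) =
        (θ g ^ s * conj (θ g ^ t)) * ∑ l ∈ Finset.univ.filter (fun l : K => l ^ M = 1),
          θ l ^ s * conj (θ l ^ t) := by
      rw [Finset.mul_sum]
      have hgM : g ^ M = 1 := hg ▸ pow_orderOf_eq_one g
      have hg0 : g ≠ 0 := u.ne_zero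
      symm
      refine Finset.sum_nbij (fun l => g * l) ?_ ?_ ?_ ?_
      · intro l hl
        rw [Finset.mem_filter] at hl ⊢
        refine ⟨Finset.mem_univ _, ?_⟩
        rw [mul_pow, hgM, hl.2, one_mul]
      · intro a _ b _ h
        exact mul_left_cancel₀ hg0 h
      · intro l hl
        rw [Finset.mem_coe, Finset.mem_filter] at hl
        refine ⟨g⁻¹ * l, ?_, ?_⟩
        · rw [Finset.mem_coe, Finset.mem_filter]
          refine ⟨Finset.mem_univ _, ?_⟩
          rw [mul_pow, inv_pow, hgM, hl.2, inv_one, one_mul]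
        · exact mul_inv_cancel_left₀ hg0 l
      · intro l _
        simp only [map_mul, mul_pow]
        ring
    have h4 : (1 - θ g ^ s * conj (θ g ^ t)) * ∑ l ∈ Finset.univ.filter (fun l : K => l ^ M = 1),
          θ l ^ s * conj (θ l ^ t) = 0 := by
      rw [sub_mul, one_mul, ← hmul, sub_self]
    exact (mul_eq_zero.1 h4).resolve_left (sub_ne_zero.2 hφ.symm)

end

section

variable {F : Type u} [Field F] [Finite F] {K : Type w} [Field K] [Finite K]

open Classical in
/-- the sum of the products of the conjugate sums counts congruences -/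
theorem sum_conjSum {θ : K →*₀ ℂ} (hθ : Function.Injective θ) [Fintype K] {n : ℕ} (hn : 0 < n)
    (hdvd : Nat.card F ^ n - 1 ∣ Nat.card Kˣ) {a b : ℕ} (ha : a ≠ 0) (hb : b ≠ 0) :
    ∑ l ∈ Finset.univ.filter (fun l : K => l ^ (Nat.card F ^ n) = l ∧ l ≠ 0),
      conjSum F (powTheta θ a ha) n l * conj (conjSum F (powTheta θ b hb) n l) =
    ((Nat.card F ^ n - 1 : ℕ) : ℂ) *
      ((Finset.range n ×ˢ Finset.range n).filter fun p =>
        a * Nat.card F ^ p.1 ≡ b * Nat.card F ^ p.2 [MOD (Nat.card F ^ n - 1)]).card := by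
  have hq1 : 1 < Nat.card F := Finite.one_lt_card
  have hqn : 1 < Nat.card F ^ n := Nat.one_lt_pow hn.ne' hq1
  have hset : Finset.univ.filter (fun l : K => l ^ (Nat.card F ^ n) = l ∧ l ≠ 0) =
      Finset.univ.filter (fun l : K => l ^ (Nat.card F ^ n - 1) = 1) := by
    ext l
    simp only [Finset.mem_filter, Finset.mem_univ, true_and]
    have h1 : l ^ (Nat.card F ^ n) = l ^ (Nat.card F ^ n - 1) * l := by
      rw [← pow_succ]
      congr 1
      omega
    constructor
    · rintro ⟨h2, h3⟩
      rw [h1] at h2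
      exact mul_right_cancel₀ h3 (by rw [h2, one_mul])
    · intro h2
      refine ⟨by rw [h1, h2, one_mul], ?_⟩
      rintro rfl
      rw [zero_pow (by omega)] at h2
      exact zero_ne_one h2
  rw [hset]
  have h1 : ∀ l : K, conjSum F (powTheta θ a ha) n l * conj (conjSum F (powTheta θ b hb) n l) =
      ∑ p ∈ Finset.range n ×ˢ Finset.range n,
        θ l ^ (a * Nat.card F ^ p.1) * conj (θ l ^ (b * Nat.card F ^ p.2)) := by
    intro l
    rw [conjSum, conjSum, map_sum, Finset.sum_mul_sum, Finset.sum_product]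
    refine Finset.sum_congr rfl fun i _ => Finset.sum_congr rfl fun j _ => ?_
    rw [powTheta_apply, powTheta_apply, map_pow θ, map_pow θ, ← pow_mul, ← pow_mul, mul_comm _ a, mul_comm _ b]
  rw [Finset.sum_congr rfl fun l _ => h1 l, Finset.sum_comm]
  rw [Finset.sum_congr rfl fun p _ => sum_theta hθ (by omega : 0 < Nat.card F ^ n - 1) hdvd _ _,
    ← Finset.sum_filter, Finset.sum_const, nsmul_eq_mul, mul_comm]

end

end Cfsg.Agent.H139.Cusp
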