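import Cfsg.Agent.Characters.Brauer
import Mathlib.Analysis.SpecialFunctions.Complex.CircleAddChar
import Mathlib.NumberTheory.LegendreSymbol.AddCharacter
import Mathlib.LinearAlgebra.Matrix.ToLin
import Mathlib.LinearAlgebra.Trace
import Mathlib.Algebra.BigOperators.Fin
import Mathlib.Logic.Equiv.Fin.Basic

/-!
# Adams operations

If `χ` is a generalized character of a finite group then so is `g ↦ χ (g ^ a)` for every `a`.
-/

set_option autoImplicit false

open Cfsg
open scoped ComplexConjugate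

namespace Cfsg.Agent.H139.Cusp

/-! ### closed walks -/

section walks

variable {ι : Type*} [Fintype ι] [DecidableEq ι] {R : Type*} [CommRing R]

/-- matrix powers as sums over walks -/
theorem pow_apply_walk (A : Matrix ι ι R) (n : ℕ) (a b : ι) :
    (A ^ n) a b = ∑ y : Fin (n + 1) → ι,
      if y 0 = a ∧ y (Fin.last n) = b then ∏ i : Fin n, A (y i.castSucc) (y i.succ) else 0 := by
  induction n generalizing a with
  | zero =>
    rw [pow_zero, Matrix.one_apply]
    have h1 : ∀ y : Fin 1 → ι, (if y 0 = a ∧ y (Fin.last 0) = b then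
        ∏ i : Fin 0, A (y i.castSucc) (y i.succ) else 0) =
        if y = fun _ => a then (if a = b then (1 : R) else 0) else 0 := by
      intro y
      have h2 : y (Fin.last 0) = y 0 := rfl
      rw [h2, Finset.univ_eq_empty, Finset.prod_empty]
      by_cases hy : y = fun _ => a
      · rw [if_pos hy, hy]
        by_cases hab : a = b
        · rw [if_pos ⟨rfl, hab⟩, if_pos hab]
        · rw [if_neg fun h => hab h.2, if_neg hab]
      · rw [if_neg hy, if_neg]
        rintro ⟨h3, -⟩
        apply hy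
        funext i
        rw [Fin.eq_zero i, h3]
    rw [Finset.sum_congr rfl fun y _ => h1 y, Finset.sum_ite_eq']
    simp
  | succ n ih =>
    rw [pow_succ', Matrix.mul_apply]
    have h1 : ∀ y : Fin (n + 2) → ι, (if y 0 = a ∧ y (Fin.last (n + 1)) = b then
        ∏ i : Fin (n + 1), A (y i.castSucc) (y i.succ) else 0) =
        (fun p : ι × (Fin (n + 1) → ι) => if p.1 = a then (if p.2 (Fin.last n) = b then
          A a (p.2 0) * ∏ i : Fin n, A (p.2 i.castSucc) (p.2 i.succ) else 0) else 0)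
        ((Fin.consEquiv fun _ => ι).symm y) := by
      intro y
      obtain ⟨⟨c, z⟩, rfl⟩ := (Fin.consEquiv fun _ : Fin (n + 2) => ι).surjective y
      rw [Equiv.symm_apply_apply]
      show (if (Fin.cons c z : Fin (n + 2) → ι) 0 = a ∧ (Fin.cons c z : Fin (n + 2) → ι) (Fin.last (n + 1)) = b then
        ∏ i : Fin (n + 1), A ((Fin.cons c z : Fin (n + 2) → ι) i.castSucc) ((Fin.cons c z : Fin (n + 2) → ι) i.succ)
          else 0) = if c = a then (if z (Fin.last n) = b then
          A a (z 0) * ∏ i : Fin n, A (z i.castSucc) (z i.succ) else 0) else 0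
      have h2 : (Fin.cons c z : Fin (n + 2) → ι) (Fin.last (n + 1)) = z (Fin.last n) := by
        rw [← Fin.succ_last]
        rfl
      rw [Fin.cons_zero, h2, Fin.prod_univ_succ]
      by_cases hc : c = a
      · subst hc
        simp only [true_and, if_true]
        refine if_congr Iff.rfl ?_ rfl
        congr 1
      · rw [if_neg hc, if_neg fun h => hc h.1]
    rw [Finset.sum_congr rfl fun y _ => h1 y,
      Fintype.sum_equiv (Fin.consEquiv fun _ : Fin (n + 2) => ι).symm _
        (fun p : ι × (Fin (n + 1) → ι) => if p.1 = a then (if p.2 (Fin.last n) = b then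
          A a (p.2 0) * ∏ i : Fin n, A (p.2 i.castSucc) (p.2 i.succ) else 0) else 0) (fun y => rfl),
      Fintype.sum_prod_type]
    refine Eq.trans ?_ (Finset.sum_eq_single a ?_ ?_).symm
    · simp only [if_true, ih, Finset.mul_sum]
      rw [Finset.sum_comm]
      refine Finset.sum_congr rfl fun y _ => ?_
      rw [Finset.sum_eq_single (y 0)]
      · by_cases hb : y (Fin.last n) = b
        · rw [if_pos ⟨rfl, hb⟩, if_pos hb]
        · rw [if_neg fun h => hb h.2, if_neg hb, mul_zero]
      · intro c _ hc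
        rw [if_neg fun h => hc h.1.symm, mul_zero]
      · intro h
        exact absurd (Finset.mem_univ _) h
    · intro c _ hc
      exact Finset.sum_eq_zero fun y _ => if_neg hc
    · intro h
      exact absurd (Finset.mem_univ _) h

theorem trace_pow_walk (A : Matrix ι ι R) (n : ℕ) :
    (A ^ (n + 1)).trace = ∑ y : Fin (n + 1) → ι, ∏ i : Fin (n + 1), A (y i) (y (i + 1)) := by
  have h1 : (A ^ (n + 1)).trace = ∑ a : ι, ∑ b : ι, (A ^ n) a b * A b a := by
    rw [pow_succ, Matrix.trace]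
    refine Finset.sum_congr rfl fun a _ => ?_
    rw [Matrix.diag_apply, Matrix.mul_apply]
  rw [h1]
  have h2 : ∀ a b : ι, (A ^ n) a b * A b a = ∑ y : Fin (n + 1) → ι,
      if y 0 = a ∧ y (Fin.last n) = b then ∏ i : Fin (n + 1), A (y i) (y (i + 1)) else 0 := by
    intro a b
    rw [pow_apply_walk, Finset.sum_mul]
    refine Finset.sum_congr rfl fun y _ => ?_
    by_cases h : y 0 = a ∧ y (Fin.last n) = b
    · rw [if_pos h, if_pos h, Fin.prod_univ_castSucc]
      congr 1
      · refine Finset.prod_congr rfl fun i _ => ?_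
        rw [Fin.coeSucc_eq_succ]
      · rw [Fin.last_add_one, h.1, h.2]
    · rw [if_neg h, if_neg h, zero_mul]
  rw [Finset.sum_congr rfl fun a _ => Finset.sum_congr rfl fun b _ => h2 a b]
  rw [Finset.sum_congr rfl fun a (_ : a ∈ Finset.univ) => Finset.sum_comm, Finset.sum_comm]
  refine Finset.sum_congr rfl fun y _ => ?_
  rw [Finset.sum_eq_single (y 0), Finset.sum_eq_single (y (Fin.last n))]
  · rw [if_pos ⟨rfl, rfl⟩]
  · intro b _ hb
    rw [if_neg fun h => hb h.2.symm]
  · intro h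
    exact absurd (Finset.mem_univ _) h
  · intro a _ ha
    refine Finset.sum_eq_zero fun b _ => ?_
    rw [if_neg fun h => ha h.1.symm]
  · intro h
    exact absurd (Finset.mem_univ _) h

end walks

/-! ### tensor powers of matrices -/

section tensor

variable {ι : Type*} [Fintype ι] [DecidableEq ι] {R : Type*} [CommRing R]
variable {I : Type*} [Fintype I] [DecidableEq I]

/-- the tensor power of a matrix -/
def tpow (I : Type*) [Fintype I] (A : Matrix ι ι R) : Matrix (I → ι) (I → ι) R :=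
  Matrix.of fun x y => ∏ i, A (x i) (y i)

omit [Fintype ι] [DecidableEq ι] [DecidableEq I] in
theorem tpow_apply (A : Matrix ι ι R) (x y : I → ι) : tpow I A x y = ∏ i, A (x i) (y i) := rfl

omit [Fintype ι] [DecidableEq I] in
theorem tpow_one : tpow I (1 : Matrix ι ι R) = 1 := by
  ext x y
  rw [tpow_apply, Matrix.one_apply]
  by_cases h : x = y
  · subst h
    rw [if_pos rfl]
    exact Finset.prod_eq_one fun i _ => Matrix.one_apply_eq _
  · rw [if_neg h]
    obtain ⟨i, hi⟩ := Function.ne_iff.1 h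
    exact Finset.prod_eq_zero (Finset.mem_univ i) (Matrix.one_apply_ne hi)

omit [DecidableEq ι] in
theorem tpow_mul (A B : Matrix ι ι R) : tpow I (A * B) = tpow I A * tpow I B := by
  ext x z
  rw [tpow_apply, Matrix.mul_apply]
  simp only [Matrix.mul_apply, tpow_apply]
  rw [Finset.prod_univ_sum, Fintype.piFinset_univ]
  exact Finset.sum_congr rfl fun y _ => Finset.prod_mul_distrib

/-- the permutation matrix -/
def pmat (R : Type*) [CommRing R] (ι : Type*) [DecidableEq ι] (σ : Equiv.Perm I) :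
    Matrix (I → ι) (I → ι) R :=
  Matrix.of fun x y => if y = x ∘ σ then 1 else 0

omit [Fintype ι] [DecidableEq I] in
theorem pmat_one : pmat R ι (1 : Equiv.Perm I) = 1 := by
  ext x y
  show (if y = x ∘ (1 : Equiv.Perm I) then (1 : R) else 0) = _
  rw [Matrix.one_apply]
  refine if_congr ?_ rfl rfl
  exact eq_comm

theorem pmat_mul (σ τ : Equiv.Perm I) : pmat R ι (σ * τ) = pmat R ι σ * pmat R ι τ := by
  ext x z
  rw [Matrix.mul_apply]
  show (if z = x ∘ (σ * τ : Equiv.Perm I) then (1 : R) else 0) =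
    ∑ y, (if y = x ∘ σ then (1 : R) else 0) * (if z = y ∘ τ then (1 : R) else 0)
  simp only [ite_mul, one_mul, zero_mul, Finset.sum_ite_eq', Finset.mem_univ, if_true]
  rfl

theorem pmat_comm (σ : Equiv.Perm I) (A : Matrix ι ι R) : pmat R ι σ * tpow I A = tpow I A * pmat R ι σ := by
  ext x z
  rw [Matrix.mul_apply, Matrix.mul_apply]
  show ∑ y, (if y = x ∘ σ then (1 : R) else 0) * tpow I A y z =
    ∑ y, tpow I A x y * (if z = y ∘ σ then (1 : R) else 0)
  have h1 : ∀ y : I → ι, (tpow I A x y * if z = y ∘ σ then (1 : R) else 0) =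
      if y = z ∘ σ.symm then tpow I A x y else 0 := by
    intro y
    rw [mul_ite, mul_one, mul_zero]
    refine if_congr ?_ rfl rfl
    constructor
    · rintro rfl
      funext i
      simp
    · rintro rfl
      funext i
      simp
  rw [Finset.sum_congr rfl fun y _ => h1 y]
  simp only [ite_mul, one_mul, zero_mul, Finset.sum_ite_eq', Finset.mem_univ, if_true]
  rw [tpow_apply, tpow_apply]
  refine Fintype.prod_equiv σ _ _ fun i => ?_
  simp

theorem trace_tpow_pmat (σ : Equiv.Perm I) (A : Matrix ι ι R) :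
    (tpow I A * pmat R ι σ).trace = ∑ x : I → ι, ∏ i, A (x (σ i)) (x i) := by
  rw [← pmat_comm, Matrix.trace]
  refine Finset.sum_congr rfl fun x _ => ?_
  rw [Matrix.diag_apply, Matrix.mul_apply]
  show ∑ y, (if y = x ∘ σ then (1 : R) else 0) * tpow I A y x = _
  simp only [ite_mul, one_mul, zero_mul, Finset.sum_ite_eq', Finset.mem_univ, if_true]
  rfl

end tensor

/-! ### slices of characters of direct products -/

theorem slice_isCharacter {G A : Type*} [Group G] [Finite G] [Group A] [Fintype A] {Ψ : G × A → ℂ}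
    (hΨ : IsCharacter (G × A) Ψ) {ψ : A → ℂ} (hψ : IsCharacter A ψ) :
    IsCharacter G (fun g => (Nat.card A : ℂ)⁻¹ * ∑ a : A, Ψ (g, a) * conj (ψ a)) := by
  have : Fintype G := Fintype.ofFinite G
  refine Characters.Brauer.isCharacter_of_nat ?_ fun χ hχ => ?_
  · intro g h
    show (Nat.card A : ℂ)⁻¹ * ∑ a : A, Ψ (h * g * h⁻¹, a) * conj (ψ a) = _
    congr 1
    refine Finset.sum_congr rfl fun a _ => ?_
    have h1 := Characters.Core.isCharacter_isClassFunction hΨ (g, a) (h, 1)
    have h2 : ((h, 1) * (g, a) * (h, 1)⁻¹ : G × A) = (h * g * h⁻¹, a) := by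
      ext <;> simp
    rw [h2] at h1
    rw [h1]
  · have h1 : IsCharacter (G × A) (fun x => χ x.1 * ψ x.2) :=
      Characters.Core.isCharacter_mul (Characters.Core.isCharacter_comp (MonoidHom.fst G A)
        (Characters.Core.isIrr_isCharacter hχ)) (Characters.Core.isCharacter_comp (MonoidHom.snd G A) hψ)
    obtain ⟨n, hn⟩ := Characters.Core.classInner_isNat hΨ h1
    refine ⟨n, ?_⟩
    rw [← hn, Characters.Core.classInner_def, Characters.Core.classInner_def, Nat.card_prod,
      Fintype.sum_prod_type, Nat.cast_mul, mul_inv, mul_assoc]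
    congr 1
    rw [Finset.mul_sum]
    refine Finset.sum_congr rfl fun g _ => ?_
    rw [mul_assoc, Finset.sum_mul]
    congr 1
    refine Finset.sum_congr rfl fun a _ => ?_
    rw [map_mul]
    ring

/-! ### the Adams operations -/

theorem trace_shift {ι : Type*} [Fintype ι] [DecidableEq ι] {R : Type*} [CommRing R] (A : Matrix ι ι R)
    {ℓ : ℕ} [hℓ : Fact ℓ.Prime] {k : ZMod ℓ} (hk : k ≠ 0) :
    ∑ x : ZMod ℓ → ι, ∏ i, A (x (i + k)) (x i) = (A ^ ℓ).trace := by
  have h1 : (A ^ ℓ).trace = ∑ y : ZMod ℓ → ι, ∏ i, A (y i) (y (i + 1)) := by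
    obtain ⟨n, rfl⟩ := Nat.exists_eq_succ_of_ne_zero hℓ.out.ne_zero
    exact trace_pow_walk A n
  rw [h1]
  have hu : -k⁻¹ ≠ (0 : ZMod ℓ) := neg_ne_zero.2 (inv_ne_zero hk)
  refine Fintype.sum_equiv (Equiv.arrowCongr (Equiv.mulLeft₀ (-k⁻¹) hu) (Equiv.refl ι)) _ _ fun x => ?_
  refine Fintype.prod_equiv ((Equiv.mulLeft₀ (-k⁻¹) hu).trans (Equiv.subRight 1)) _ _ fun i => ?_
  have h2 : ∀ j, (Equiv.arrowCongr (Equiv.mulLeft₀ (-k⁻¹) hu) (Equiv.refl ι)) x j =
      x ((Equiv.mulLeft₀ (-k⁻¹) hu).symm j) := fun j => rfl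
  rw [h2, h2]
  have h3 : ((Equiv.mulLeft₀ (-k⁻¹) hu).trans (Equiv.subRight 1)) i = (Equiv.mulLeft₀ (-k⁻¹) hu) (i + k) := by
    show -k⁻¹ * i - 1 = -k⁻¹ * (i + k)
    rw [mul_add, neg_mul, neg_mul, inv_mul_cancel₀ hk]
    ring
  have h4 : ((Equiv.mulLeft₀ (-k⁻¹) hu).trans (Equiv.subRight 1)) i + 1 = (Equiv.mulLeft₀ (-k⁻¹) hu) i := by
    show -k⁻¹ * i - 1 + 1 = -k⁻¹ * i
    ring
  rw [h4, h3, Equiv.symm_apply_apply, Equiv.symm_apply_apply]

theorem exists_adams {G : Type*} [Group G] [Finite G] {χ : G → ℂ} (hχ : IsCharacter G χ)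
    (ℓ : ℕ) [hℓ : Fact ℓ.Prime] : ∃ Ψ : G × Multiplicative (ZMod ℓ) → ℂ,
      IsCharacter (G × Multiplicative (ZMod ℓ)) Ψ ∧
        ∀ (g : G) (k : ZMod ℓ), k ≠ 0 → Ψ (g, Multiplicative.ofAdd k) = χ (g ^ ℓ) := by
  classical
  obtain ⟨n, ρ, rfl⟩ := hχ
  let M : G →* Matrix (Fin n) (Fin n) ℂ :=
    ((LinearMap.toMatrixAlgEquiv' : ((Fin n → ℂ) →ₗ[ℂ] (Fin n → ℂ)) ≃ₐ[ℂ] Matrix (Fin n) (Fin n) ℂ) :
      ((Fin n → ℂ) →ₗ[ℂ] (Fin n → ℂ)) →* Matrix (Fin n) (Fin n) ℂ).comp ρ
  have hM : ∀ g, (M g).trace = ρ.character g := by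
    intro g
    show (LinearMap.toMatrix' (ρ g)).trace = LinearMap.trace ℂ (Fin n → ℂ) (ρ g)
    rw [← Matrix.trace_toLin'_eq, Matrix.toLin'_toMatrix']
  let f : G × Multiplicative (ZMod ℓ) →* Matrix (ZMod ℓ → Fin n) (ZMod ℓ → Fin n) ℂ :=
    { toFun := fun x => tpow (ZMod ℓ) (M x.1) * pmat ℂ (Fin n) (Equiv.addRight x.2.toAdd)
      map_one' := by
        have h1 : (Equiv.addRight (Multiplicative.toAdd (1 : G × Multiplicative (ZMod ℓ)).2) :
            Equiv.Perm (ZMod ℓ)) = 1 := by
          ext i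
          show ((i + 0 : ZMod ℓ)) = _
          rw [add_zero]
          rfl
        rw [h1, pmat_one, mul_one, Prod.fst_one, map_one, tpow_one]
      map_mul' := fun x y => by
        have h1 : (Equiv.addRight (Multiplicative.toAdd (x * y).2) : Equiv.Perm (ZMod ℓ)) =
            Equiv.addRight (Multiplicative.toAdd x.2) * Equiv.addRight (Multiplicative.toAdd y.2) := by
          ext i
          show i + (x.2.toAdd + y.2.toAdd) = i + y.2.toAdd + x.2.toAdd
          ring
        rw [h1, pmat_mul, Prod.fst_mul, map_mul, tpow_mul, mul_assoc, mul_assoc]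
        congr 1
        rw [← mul_assoc, ← pmat_comm, mul_assoc] }
  let ρ' : Representation ℂ (G × Multiplicative (ZMod ℓ)) ((ZMod ℓ → Fin n) → ℂ) :=
    ((Matrix.toLinAlgEquiv' : Matrix (ZMod ℓ → Fin n) (ZMod ℓ → Fin n) ℂ ≃ₐ[ℂ] _) :
      Matrix (ZMod ℓ → Fin n) (ZMod ℓ → Fin n) ℂ →* _).comp f
  refine ⟨ρ'.character, Characters.Core.isCharacter_of_rep ρ', fun g k hk => ?_⟩
  have h1 : ρ'.character (g, Multiplicative.ofAdd k) =
      (tpow (ZMod ℓ) (M g) * pmat ℂ (Fin n) (Equiv.addRight k)).trace :=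
    Matrix.trace_toLin'_eq _
  rw [h1, trace_tpow_pmat, ← hM, map_pow]
  exact trace_shift (M g) hk

theorem isGeneralizedCharacter_pow_prime {G : Type*} [Group G] [Finite G] {χ : G → ℂ}
    (hχ : IsGeneralizedCharacter G χ) (ℓ : ℕ) [hℓ : Fact ℓ.Prime] :
    IsGeneralizedCharacter G (fun g => χ (g ^ ℓ)) := by
  have key : ∀ χ : G → ℂ, IsCharacter G χ → IsGeneralizedCharacter G (fun g => χ (g ^ ℓ)) := by
    intro χ hχ
    obtain ⟨Ψ, hΨ, hΨ'⟩ := exists_adams hχ ℓ
    let A := Multiplicative (ZMod ℓ)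
    let lam : A →* ℂ := (ZMod.stdAddChar (N := ℓ)).toMonoidHom
    have hl : IsCharacter A (fun a => lam a) := Characters.Brauer.isCharacter_of_monoidHom lam
    have h1 := slice_isCharacter hΨ (Characters.Core.isCharacter_one (G := A))
    have h2 := slice_isCharacter hΨ hl
    have hcard : (Nat.card A : ℂ) ≠ 0 := Characters.Core.card_ne_zero_complex
    have hsum : ∑ a : A, conj (lam a) = 0 := by
      rw [← map_sum, map_eq_zero]
      have h3 : ∑ k : ZMod ℓ, ZMod.stdAddChar (N := ℓ) k = 0 := by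
        rw [AddChar.sum_eq_zero_iff_ne_zero]
        intro h0
        have h4 : ZMod.stdAddChar (N := ℓ) 1 = ZMod.stdAddChar (N := ℓ) 0 := by
          rw [h0]
          rfl
        exact one_ne_zero (ZMod.injective_stdAddChar h4)
      rw [← h3]
      exact Fintype.sum_equiv Multiplicative.toAdd _ _ fun a => rfl
    refine ⟨_, _, h1, h2, ?_⟩
    funext g
    show χ (g ^ ℓ) = (Nat.card A : ℂ)⁻¹ * ∑ a : A, Ψ (g, a) * conj ((1 : A → ℂ) a) -
      (Nat.card A : ℂ)⁻¹ * ∑ a : A, Ψ (g, a) * conj (lam a)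
    rw [← mul_sub, ← Finset.sum_sub_distrib, eq_inv_mul_iff_mul_eq₀ hcard]
    have h5 : ∀ a : A, Ψ (g, a) * conj ((1 : A → ℂ) a) - Ψ (g, a) * conj (lam a) =
        χ (g ^ ℓ) * (1 - conj (lam a)) := by
      intro a
      rw [← mul_sub, Pi.one_apply, map_one]
      by_cases ha : a.toAdd = 0
      · have h6 : lam a = 1 := by
          show ZMod.stdAddChar (N := ℓ) a.toAdd = 1
          rw [ha, AddChar.map_zero_eq_one]
        rw [h6, map_one, sub_self, mul_zero, mul_zero]
      · rw [← hΨ' g a.toAdd ha]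
        rfl
    rw [Finset.sum_congr rfl fun a _ => h5 a, ← Finset.mul_sum, Finset.sum_sub_distrib, hsum, sub_zero,
      Finset.sum_const, Finset.card_univ, nsmul_eq_mul, mul_one, ← Nat.card_eq_fintype_card, mul_comm]
  obtain ⟨α, β, hα, hβ, rfl⟩ := hχ
  exact Characters.Brauer.isGeneralizedCharacter_sub (key α hα) (key β hβ)

/-- **Adams operations**: `g ↦ χ (g ^ a)` is a generalized character. -/
theorem isGeneralizedCharacter_pow {G : Type*} [Group G] [Finite G] {χ : G → ℂ}
    (hχ : IsGeneralizedCharacter G χ) (a : ℕ) : IsGeneralizedCharacter G (fun g => χ (g ^ a)) := by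
  induction a using Nat.recOnMul generalizing χ with
  | zero =>
    obtain ⟨α, β, hα, hβ, rfl⟩ := hχ
    have key : ∀ α : G → ℂ, IsCharacter G α → IsCharacter G (fun g => α (g ^ 0)) := by
      intro α hα
      obtain ⟨n, hn⟩ := Characters.Core.isCharacter_apply_one hα
      have h1 := Characters.Core.isCharacter_nsmul (G := G) n Characters.Core.isCharacter_one
      refine (?_ : (fun g => α (g ^ 0)) = n • (1 : G → ℂ)) ▸ h1
      funext g
      rw [pow_zero, hn, Pi.smul_apply, Pi.one_apply, nsmul_eq_mul, mul_one]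
    exact ⟨_, _, key α hα, key β hβ, rfl⟩
  | one => simpa using hχ
  | prime p hp =>
    have : Fact p.Prime := ⟨hp⟩
    exact isGeneralizedCharacter_pow_prime hχ p
  | mul a b ha hb =>
    have h1 : (fun g : G => χ (g ^ (a * b))) = fun g => χ ((g ^ b) ^ a) := by
      funext g
      rw [← pow_mul, mul_comm]
    rw [h1]
    exact hb (ha hχ)

end Cfsg.Agent.H139.Cusp
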