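import Cfsg.Agent.H139.Cusp.Pairing

/-!
# The inner product of two functions `kap`
-/

set_option autoImplicit false

open Polynomial
open scoped ComplexConjugate

namespace Cfsg.Agent.H139.Cusp

universe u v

attribute [local instance] fintypeHom fintypeSub finite_quot

variable {F : Type u} [Field F]
variable {V : Type v} [AddCommGroup V] [Module F V] [Finite V]

theorem isUnit_add_phi {N : Submodule F V} {g : V →ₗ[F] V} (hg : N ≤ N.comap g) (t : (V ⧸ N) →ₗ[F] N) :
    IsUnit (g + phi N t) ↔ IsUnit g := by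
  rw [isUnit_iff_coeff, isUnit_iff_coeff, charpoly_add_phi hg]

open Classical in
theorem sum_units (f : (V →ₗ[F] V) → ℂ) [Fintype (V →ₗ[F] V)ˣ] :
    ∑ g : (V →ₗ[F] V)ˣ, f g = ∑ g : V →ₗ[F] V, if IsUnit g then f g else 0 := by
  rw [← Finset.sum_filter]
  refine Finset.sum_nbij (fun g : (V →ₗ[F] V)ˣ => (g : V →ₗ[F] V)) ?_ ?_ ?_ (fun _ _ => rfl)
  · intro g _
    exact Finset.mem_filter.2 ⟨Finset.mem_univ _, g.isUnit⟩
  · intro g _ g' _ h
    exact Units.ext h
  · intro g hg
    obtain ⟨u, hu⟩ := (Finset.mem_filter.1 hg).2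
    exact ⟨u, Finset.mem_coe.2 (Finset.mem_univ _), hu⟩

open Classical in
/-- The pairing of `kap B` and `kap B'` is the pairing of `kap B` and `B'`. -/
theorem sum_kap_kap (B B' : F[X] → ℂ) (hB : ∀ p q : F[X], p.Monic → q.Monic → B (p * q) = B p + B q)
    (hB' : ∀ p q : F[X], p.Monic → q.Monic → B' (p * q) = B' p + B' q) [Fintype (V →ₗ[F] V)ˣ] :
    ∑ g : (V →ₗ[F] V)ˣ, kap B (g : V →ₗ[F] V) ⊤ * conj (kap B' (g : V →ₗ[F] V) ⊤) =
      ∑ g : V →ₗ[F] V, kap B g ⊤ * if g.charpoly.coeff 0 ≠ 0 then conj (B' g.charpoly) else 0 := by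
  rw [sum_units fun g => kap B g ⊤ * conj (kap B' g ⊤)]
  have h1 : ∀ g : V →ₗ[F] V, (kap B g ⊤ * if g.charpoly.coeff 0 ≠ 0 then conj (B' g.charpoly) else 0) =
      ∑ W : Submodule F V, kap B g ⊤ * if IsUnit g then conj (kap B' g W) else 0 := by
    intro g
    rw [← Finset.mul_sum, ← kap_sum_top B' g]
    congr 1
    by_cases hg : IsUnit g
    · rw [if_pos ((isUnit_iff_coeff g).1 hg), map_sum]
      exact Finset.sum_congr rfl fun W _ => (if_pos hg).symm
    · rw [if_neg (fun h => hg ((isUnit_iff_coeff g).2 h))]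
      exact (Finset.sum_eq_zero fun W _ => if_neg hg).symm
  rw [Finset.sum_congr rfl fun g _ => h1 g, Finset.sum_comm]
  symm
  rw [Finset.sum_eq_single (⊤ : Submodule F V)]
  · refine Finset.sum_congr rfl fun g _ => ?_
    split_ifs
    · rfl
    · rw [mul_zero]
  · intro N _ hN
    by_cases hN0 : N = ⊥
    · refine Finset.sum_eq_zero fun g _ => ?_
      rw [hN0, kap_bot B' hB', map_zero]
      simp
    · refine orth B hB hN0 hN (fun g => if IsUnit g then conj (kap B' g N) else 0) ?_ ?_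
      · intro g hg
        simp only [kap_of_not B' hg, map_zero, ite_self]
      · intro g hg t
        have h2 : kap B' (g + phi N t) N = kap B' g N := by
          rw [kap_eq_top B' (add_phi_inv hg t), kap_eq_top B' hg, restrict_add_phi]
        simp only [isUnit_add_phi hg t, h2]
  · intro h
    exact absurd (Finset.mem_univ _) h

open Classical in
theorem pairing [Finite F] (B B' : F[X] → ℂ)
    (hB : ∀ p q : F[X], p.Monic → q.Monic → B (p * q) = B p + B q)
    (hB' : ∀ p q : F[X], p.Monic → q.Monic → B' (p * q) = B' p + B' q) {n : ℕ}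
    (hn : Module.finrank F V = n) (hn0 : 0 < n) [Fintype (V →ₗ[F] V)ˣ] [Fintype (MonN F n)] :
    ((Nat.card F : ℂ) ^ n - 1) *
      ∑ g : (V →ₗ[F] V)ˣ, kap B (g : V →ₗ[F] V) ⊤ * conj (kap B' (g : V →ₗ[F] V) ⊤) =
    (Nat.card (V →ₗ[F] V)ˣ : ℂ) * ∑ h : MonN F n, kapR B h.1 h.2.1 *
      if h.1.coeff 0 ≠ 0 then conj (B' h.1) else 0 := by
  have : Fintype V := Fintype.ofFinite V
  have hnt : Nontrivial V := Module.nontrivial_of_finrank_pos (R := F) (by omega)
  have hcard : (Nat.card F : ℂ) ^ n = Fintype.card V := by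
    rw [← Nat.card_eq_fintype_card, Module.natCard_eq_pow_finrank (K := F) (V := V), hn]
    push_cast
    rfl
  rw [sum_kap_kap B B' hB hB', hcard,
    sum_cyclic B hB (fun h => if h.coeff 0 ≠ 0 then conj (B' h) else 0),
    sum_pairs B (fun h => if h.coeff 0 ≠ 0 then conj (B' h) else 0) hn]
  congr 2
  exact Nat.card_congr (LinearMap.GeneralLinearGroup.generalLinearEquiv F V).toEquiv.symm

end Cfsg.Agent.H139.Cusp
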