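import Cfsg.Agent.H139.Cusp.Kappa
import Cfsg.Agent.Characters.Brauer
import Cfsg.Agent.Characters.Elementary
import Mathlib.LinearAlgebra.Eigenspace.Charpoly
import Mathlib.Algebra.Polynomial.Splits
import Mathlib.RepresentationTheory.Basic
import Mathlib.GroupTheory.Nilpotent

/-!
# The Brauer lift of a modular representation is a generalized character
-/

set_option autoImplicit false

open Polynomial Cfsg

namespace Cfsg.Agent.H139.Cusp

section linear

variable {K : Type*} [Field K] (θ : K →*₀ ℂ)
variable {V : Type*} [AddCommGroup V] [Module K V] [FiniteDimensional K V]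
variable {V' : Type*} [AddCommGroup V'] [Module K V'] [FiniteDimensional K V']

/-- the sum of the lifts of the roots of the characteristic polynomial -/
noncomputable def bl (e : V →ₗ[K] V) : ℂ := (e.charpoly.roots.map θ).sum

theorem cp_conj (x : V ≃ₗ[K] V') {e : V →ₗ[K] V} {e' : V' →ₗ[K] V'} (h : ∀ v, e' (x v) = x (e v)) :
    e'.charpoly = e.charpoly := by
  rw [← LinearEquiv.charpoly_conj x e]
  congr 1
  apply LinearMap.ext
  intro v
  rw [LinearEquiv.conj_apply_apply, ← h, LinearEquiv.apply_symm_apply]

theorem bl_conj (x : V ≃ₗ[K] V') {e : V →ₗ[K] V} {e' : V' →ₗ[K] V'} (h : ∀ v, e' (x v) = x (e v)) :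
    bl θ e' = bl θ e := by
  rw [bl, bl, cp_conj x h]

theorem bl_mul {e : V →ₗ[K] V} {p q : K[X]} (hp : p.Monic) (hq : q.Monic) (h : e.charpoly = p * q) :
    bl θ e = (p.roots.map θ).sum + (q.roots.map θ).sum := by
  rw [bl, h, roots_mul (mul_ne_zero hp.ne_zero hq.ne_zero), Multiset.map_add, Multiset.sum_add]

theorem bl_sub_quot {e : V →ₗ[K] V} {W : Submodule K V} (h : W ≤ W.comap e) :
    bl θ e = bl θ (e.restrict h) + bl θ (W.mapQ W e h) :=
  bl_mul θ (LinearMap.charpoly_monic _) (LinearMap.charpoly_monic _) (charpoly_eq_mul W e h)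

theorem matrix_charpoly_smul {n : Type*} [Fintype n] [DecidableEq n] (M : Matrix n n K) {c : K} (hc : c ≠ 0) :
    (c • M).charpoly = C (c ^ Fintype.card n) * M.charpoly.comp (C c⁻¹ * X) := by
  have h1 : M.charpoly.comp (C c⁻¹ * X) =
      ((compRingHom (C c⁻¹ * X : K[X])).mapMatrix M.charmatrix).det := by
    rw [← RingHom.map_det]
    rfl
  have h2 : (c • M).charmatrix = (C c : K[X]) • ((compRingHom (C c⁻¹ * X : K[X])).mapMatrix M.charmatrix) := by
    ext1 i j
    rw [Matrix.smul_apply, RingHom.mapMatrix_apply, Matrix.map_apply, coe_compRingHom_apply,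
      Matrix.charmatrix_apply, Matrix.charmatrix_apply, sub_comp, C_comp, Matrix.smul_apply,
      smul_eq_mul, smul_eq_mul, mul_sub, C_mul]
    congr 1
    by_cases hij : i = j
    · subst hij
      rw [Matrix.diagonal_apply_eq, X_comp, ← mul_assoc, ← C_mul, mul_inv_cancel₀ hc, C_1, one_mul]
    · rw [Matrix.diagonal_apply_ne _ hij, zero_comp, mul_zero]
  rw [Matrix.charpoly, h2, Matrix.det_smul, h1, C_pow]

theorem bl_smul {e : V →ₗ[K] V} (hs : e.charpoly.Splits) {c : K} (hc : c ≠ 0) :
    bl θ (c • e) = θ c * bl θ e := by
  classical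
  have h1 : (c • e).charpoly = ((e.charpoly.roots.map (c * ·)).map (fun a => X - C a)).prod := by
    let b := Module.Free.chooseBasis K V
    have h2 : (c • e).charpoly = C (c ^ Fintype.card (Module.Free.ChooseBasisIndex K V)) *
        e.charpoly.comp (C c⁻¹ * X) := by
      rw [← LinearMap.charpoly_toMatrix (c • e) b, map_smul, matrix_charpoly_smul _ hc,
        LinearMap.charpoly_toMatrix]
    have h3 : Fintype.card (Module.Free.ChooseBasisIndex K V) = e.charpoly.roots.card := by
      rw [← hs.natDegree_eq_card_roots, LinearMap.charpoly_natDegree,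
        Module.finrank_eq_card_chooseBasisIndex]
    rw [h2, h3]
    conv_lhs => rw [hs.eq_prod_roots_of_monic (LinearMap.charpoly_monic e)]
    generalize e.charpoly.roots = s
    rw [roots_multiset_prod_X_sub_C]
    induction s using Multiset.induction_on with
    | empty => simp
    | cons a s ih =>
      rw [Multiset.card_cons, Multiset.map_cons, Multiset.prod_cons, mul_comp, pow_succ, C_mul,
        Multiset.map_cons, Multiset.map_cons, Multiset.prod_cons, ← ih, sub_comp, X_comp, C_comp]
      have : C c * (C c⁻¹ * X - C a) = X - C (c * a) := by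
        rw [mul_sub, ← mul_assoc, ← C_mul, mul_inv_cancel₀ hc, C_1, one_mul, ← C_mul]
      rw [← this]
      ring
  rw [bl, h1, roots_multiset_prod_X_sub_C, Multiset.map_map, bl, ← Multiset.sum_map_mul_left]
  congr 1
  refine Multiset.map_congr rfl fun a _ => ?_
  simp

open Classical in
/-- The lift on a subspace, zero if it is not invariant. -/
noncomputable def blr (e : V →ₗ[K] V) (W : Submodule K V) : ℂ :=
  if h : W ≤ W.comap e then bl θ (e.restrict h) else 0

theorem blr_of {e : V →ₗ[K] V} {W : Submodule K V} (h : W ≤ W.comap e) :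
    blr θ e W = bl θ (e.restrict h) := dif_pos h

theorem blr_not {e : V →ₗ[K] V} {W : Submodule K V} (h : ¬ W ≤ W.comap e) : blr θ e W = 0 := dif_neg h

theorem blr_top (e : V →ₗ[K] V) : blr θ e ⊤ = bl θ e := by
  have h : (⊤ : Submodule K V) ≤ (⊤ : Submodule K V).comap e := fun x _ => trivial
  rw [blr_of θ h]
  exact (bl_conj θ (Submodule.topEquiv (R := K) (M := V)) fun _ => rfl).symm

theorem blr_bot (e : V →ₗ[K] V) : blr θ e ⊥ = 0 := by
  have h : (⊥ : Submodule K V) ≤ (⊥ : Submodule K V).comap e := bot_le
  rw [blr_of θ h, bl]
  have h1 : (e.restrict h).charpoly = 1 := by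
    have h2 : (e.restrict h).charpoly.natDegree = 0 := by
      rw [LinearMap.charpoly_natDegree]
      exact finrank_bot K V
    exact eq_one_of_monic_natDegree_zero (LinearMap.charpoly_monic _) h2
  rw [h1, roots_one]
  rfl

theorem blr_map (x : V ≃ₗ[K] V') {e : V →ₗ[K] V} {e' : V' →ₗ[K] V'} (h : ∀ v, e' (x v) = x (e v))
    (W : Submodule K V) : blr θ e' (W.map (x : V →ₗ[K] V')) = blr θ e W := by
  have hst : W.map (x : V →ₗ[K] V') ≤ (W.map (x : V →ₗ[K] V')).comap e' ↔ W ≤ W.comap e := by
    rw [Submodule.map_le_iff_le_comap]
    constructor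
    · intro hh y hy
      have h1 := hh hy
      rw [Submodule.mem_comap, Submodule.mem_comap, LinearEquiv.coe_coe, h] at h1
      obtain ⟨z, hz, hxz⟩ := h1
      rw [Submodule.mem_comap, ← x.injective hxz]
      exact hz
    · intro hh y hy
      rw [Submodule.mem_comap, Submodule.mem_comap, LinearEquiv.coe_coe, h]
      exact Submodule.mem_map_of_mem (hh hy)
  by_cases hW : W ≤ W.comap e
  · rw [blr_of θ hW, blr_of θ (hst.2 hW)]
    refine bl_conj θ (x.submoduleMap W) ?_
    intro v
    apply Subtype.ext
    exact h v
  · rw [blr_not θ hW, blr_not θ fun hh => hW (hst.1 hh)]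

theorem cp_compl {e : V →ₗ[K] V} {A D : Submodule K V} (hAD : IsCompl A D)
    (hA : A ≤ A.comap e) (hD : D ≤ D.comap e) :
    e.charpoly = (e.restrict hA).charpoly * (e.restrict hD).charpoly := by
  rw [charpoly_eq_mul A e hA]
  congr 1
  refine (cp_conj (A.quotientEquivOfIsCompl D hAD).symm fun v => ?_)
  rw [Submodule.quotientEquivOfIsCompl_symm_apply, Submodule.quotientEquivOfIsCompl_symm_apply]
  rfl

theorem blr_sup {e : V →ₗ[K] V} {A D : Submodule K V} (hd : Disjoint A D)
    (hA : A ≤ A.comap e) (hD : D ≤ D.comap e) : blr θ e (A ⊔ D) = blr θ e A + blr θ e D := by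
  have hW : A ⊔ D ≤ (A ⊔ D).comap e :=
    sup_le (hA.trans (Submodule.comap_mono le_sup_left)) (hD.trans (Submodule.comap_mono le_sup_right))
  rw [blr_of θ hW, blr_of θ hA, blr_of θ hD]
  set W := A ⊔ D with hWdef
  have hAW : A ≤ W := le_sup_left
  have hCW : D ≤ W := le_sup_right
  have h1 : IsCompl (A.comap W.subtype) (D.comap W.subtype) := by
    constructor
    · rw [Submodule.disjoint_def]
      intro x hx hx'
      exact Subtype.ext (Submodule.disjoint_def.1 hd x hx hx')
    · rw [codisjoint_iff]
      apply Submodule.map_injective_of_injective W.injective_subtype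
      rw [Submodule.map_sup, Submodule.map_comap_subtype, Submodule.map_comap_subtype,
        inf_eq_right.2 hAW, inf_eq_right.2 hCW, Submodule.map_top, Submodule.range_subtype]
  have hA' : A.comap W.subtype ≤ (A.comap W.subtype).comap (e.restrict hW) := fun x hx => hA hx
  have hD' : D.comap W.subtype ≤ (D.comap W.subtype).comap (e.restrict hW) := fun x hx => hD hx
  rw [bl_mul θ (LinearMap.charpoly_monic _) (LinearMap.charpoly_monic _) (cp_compl h1 hA' hD')]
  congr 1
  · exact (bl_conj θ (Submodule.comapSubtypeEquivOfLe hAW) fun v => rfl).symm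
  · exact (bl_conj θ (Submodule.comapSubtypeEquivOfLe hCW) fun v => rfl).symm

open Module.End in
/-- additivity over eigenspaces of a commuting operator -/
theorem blr_eigen [DecidableEq K] {e D : V →ₗ[K] V}
    (hc : ∀ v, e (D v) = D (e v)) (S : Finset K) :
    (S.sup fun μ => eigenspace (R := K) (M := V) D μ) ≤
        (S.sup fun μ => eigenspace (R := K) (M := V) D μ).comap e ∧
      blr θ e (S.sup fun μ => eigenspace (R := K) (M := V) D μ) =
        ∑ μ ∈ S, blr θ e (eigenspace (R := K) (M := V) D μ) := by
  have hst : ∀ μ, eigenspace (R := K) (M := V) D μ ≤ (eigenspace (R := K) (M := V) D μ).comap e := by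
    intro μ v hv
    rw [Submodule.mem_comap, mem_eigenspace_iff]
    rw [mem_eigenspace_iff] at hv
    rw [← hc, hv, map_smul]
  induction S using Finset.induction_on with
  | empty =>
    refine ⟨bot_le, ?_⟩
    rw [Finset.sup_empty, Finset.sum_empty, blr_bot]
  | insert μ S hμ ih =>
    rw [Finset.sup_insert, Finset.sum_insert hμ, ← ih.2]
    refine ⟨sup_le ((hst μ).trans (Submodule.comap_mono le_sup_left))
      (ih.1.trans (Submodule.comap_mono le_sup_right)), ?_⟩
    refine blr_sup θ ?_ (hst μ) ih.1
    have h1 := eigenspaces_iSupIndep (R := K) (M := V) D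
    have h2 := h1.disjoint_biSup (x := μ) (y := (S : Set K)) hμ
    rw [Finset.sup_eq_iSup]
    exact h2

end linear

/-! ### nilpotent groups -/

/-- a nonabelian nilpotent group has an element outside the centre whose commutators are central -/
theorem exists_second_center (H : Type*) [Group H] [Group.IsNilpotent H] (hn : ¬ ∀ x y : H, x * y = y * x) :
    ∃ a : H, a ∉ Subgroup.center H ∧ ∀ h : H, h * a * h⁻¹ * a⁻¹ ∈ Subgroup.center H := by
  have hnt : Nontrivial (H ⧸ Subgroup.center H) := by
    by_contra h
    rw [not_nontrivial_iff_subsingleton] at h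
    apply hn
    intro x y
    have h1 : (QuotientGroup.mk x : H ⧸ Subgroup.center H) = QuotientGroup.mk 1 := Subsingleton.elim _ _
    rw [QuotientGroup.eq, mul_one, inv_mem_iff, Subgroup.mem_center_iff] at h1
    exact (h1 y).symm
  have h1 := Group.IsNilpotent.center_ne_bot (G := H ⧸ Subgroup.center H)
  obtain ⟨⟨q, hq⟩, hq0⟩ := Subgroup.ne_bot_iff_exists_ne_one.1 h1
  have hq1 : q ≠ 1 := fun h => hq0 (Subtype.ext h)
  obtain ⟨a, rfl⟩ := QuotientGroup.mk_surjective q
  refine ⟨a, fun h => hq1 ((QuotientGroup.eq_one_iff a).2 h), fun h => ?_⟩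
  rw [Subgroup.mem_center_iff] at hq
  rw [← QuotientGroup.eq_one_iff]
  have h2 := hq (QuotientGroup.mk h)
  rw [QuotientGroup.mk_mul, QuotientGroup.mk_mul, QuotientGroup.mk_mul, h2]
  simp

section rep

universe v w

variable {K : Type*} [Field K]

/-- the equivalence given by an element -/
noncomputable def rhoEquiv {G V : Type*} [Group G] [AddCommGroup V] [Module K V]
    (ρ : Representation K G V) (g : G) : V ≃ₗ[K] V :=
  LinearEquiv.ofLinearMap (ρ g) (ρ g⁻¹)
    (by rw [← Module.End.mul_eq_comp, ← map_mul, mul_inv_cancel, map_one]; rfl)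
    (by rw [← Module.End.mul_eq_comp, ← map_mul, inv_mul_cancel, map_one]; rfl)

theorem rhoEquiv_apply {G V : Type*} [Group G] [AddCommGroup V] [Module K V]
    (ρ : Representation K G V) (g : G) (v : V) : rhoEquiv ρ g v = ρ g v := rfl

/-- restriction of a representation to a subgroup and an invariant subspace -/
noncomputable def restrictRep {G V : Type*} [Group G] [AddCommGroup V] [Module K V]
    (ρ : Representation K G V) (M : Subgroup G) (W : Submodule K V) (h : ∀ m ∈ M, W ≤ W.comap (ρ m)) :
    Representation K M W where
  toFun m := (ρ m).restrict (h m m.2)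
  map_one' := by
    apply LinearMap.ext
    intro x
    apply Subtype.ext
    show ρ ((1 : M) : G) x = x
    rw [Subgroup.coe_one, map_one]
    rfl
  map_mul' m m' := by
    apply LinearMap.ext
    intro x
    apply Subtype.ext
    show ρ ((m * m' : M) : G) x = ρ m (ρ m' x)
    rw [Subgroup.coe_mul, map_mul]
    rfl

/-- an invariant subspace as a representation -/
noncomputable def subRep {G V : Type*} [Group G] [AddCommGroup V] [Module K V]
    (ρ : Representation K G V) (W : Submodule K V) (h : ∀ g, W ≤ W.comap (ρ g)) :
    Representation K G W where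
  toFun m := (ρ m).restrict (h m)
  map_one' := by
    apply LinearMap.ext
    intro x
    apply Subtype.ext
    show ρ 1 x = x
    rw [map_one]
    rfl
  map_mul' m m' := by
    apply LinearMap.ext
    intro x
    apply Subtype.ext
    show ρ (m * m') x = ρ m (ρ m' x)
    rw [map_mul]
    rfl

/-- the quotient representation -/
noncomputable def quotRep {G V : Type*} [Group G] [AddCommGroup V] [Module K V]
    (ρ : Representation K G V) (W : Submodule K V) (h : ∀ g, W ≤ W.comap (ρ g)) :
    Representation K G (V ⧸ W) where
  toFun m := W.mapQ W (ρ m) (h m)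
  map_one' := by
    apply Submodule.linearMap_qext
    ext x
    show W.mkQ (ρ 1 x) = W.mkQ x
    rw [map_one]
    rfl
  map_mul' m m' := by
    apply Submodule.linearMap_qext
    ext x
    show W.mkQ (ρ (m * m') x) = W.mkQ (ρ m (ρ m' x))
    rw [map_mul]
    rfl

theorem isGeneralizedCharacter_congr {G : Type*} [Group G] {χ ψ : G → ℂ} (h : IsGeneralizedCharacter G χ)
    (hh : ∀ g, ψ g = χ g) : IsGeneralizedCharacter G ψ := by
  have : ψ = χ := funext hh
  rwa [this]

theorem lift_nilpotent (θ : K →*₀ ℂ) (hθ : Function.Injective θ) (n : ℕ) :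
    ∀ (G : Type w) [Group G] [Finite G] [Group.IsNilpotent G] (V : Type v) [AddCommGroup V] [Module K V]
      [FiniteDimensional K V], Module.finrank K V = n → ∀ ρ : Representation K G V,
      (∀ g, (LinearMap.charpoly (ρ g)).Splits) → IsGeneralizedCharacter G (fun g => bl θ (ρ g)) := by
  induction n using Nat.strong_induction_on with
  | _ n ih =>
    intro G _ _ _ V _ _ _ hV ρ hsp
    classical
    have : Fintype G := Fintype.ofFinite G
    rcases Nat.eq_zero_or_pos n with hn | hn
    · refine isGeneralizedCharacter_congr Characters.Brauer.isGeneralizedCharacter_zero fun g => ?_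
      have h1 : (LinearMap.charpoly (ρ g)) = 1 := by
        refine eq_one_of_monic_natDegree_zero (LinearMap.charpoly_monic _) ?_
        rw [LinearMap.charpoly_natDegree, hV, hn]
      rw [bl, h1, roots_one]
      rfl
    by_cases hred : ∃ W : Submodule K V, W ≠ ⊥ ∧ W ≠ ⊤ ∧ ∀ g, W ≤ W.comap (ρ g)
    · obtain ⟨W, hW0, hW1, hW⟩ := hred
      have h1 : Module.finrank K W < n := hV ▸ Submodule.finrank_lt hW1
      have h2 : Module.finrank K (V ⧸ W) < n := by
        have h3 := W.finrank_quotient_add_finrank
        have h4 : 0 < Module.finrank K W := by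
          rw [pos_iff_ne_zero]
          intro h
          exact hW0 (Submodule.finrank_eq_zero.1 h)
        omega
      have hdvd : ∀ g, (LinearMap.charpoly (ρ g)) =
          (LinearMap.charpoly (subRep ρ W hW g)) * (LinearMap.charpoly (quotRep ρ W hW g)) :=
        fun g => charpoly_eq_mul W (ρ g) (hW g)
      have hs1 : ∀ g, (LinearMap.charpoly (subRep ρ W hW g)).Splits := fun g =>
        (hsp g).of_dvd (LinearMap.charpoly_monic _).ne_zero (by rw [hdvd g]; exact dvd_mul_right _ _)
      have hs2 : ∀ g, (LinearMap.charpoly (quotRep ρ W hW g)).Splits := fun g =>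
        (hsp g).of_dvd (LinearMap.charpoly_monic _).ne_zero (by rw [hdvd g]; exact dvd_mul_left _ _)
      exact isGeneralizedCharacter_congr (Characters.Brauer.isGeneralizedCharacter_add
        (ih _ h1 G W rfl (subRep ρ W hW) hs1) (ih _ h2 G (V ⧸ W) rfl (quotRep ρ W hW) hs2))
        fun g => bl_sub_quot θ (hW g)
    · have hirr : ∀ W : Submodule K V, (∀ g, W ≤ W.comap (ρ g)) → W ≠ ⊥ → W = ⊤ := by
        intro W hW hW0
        by_contra hW1
        exact hred ⟨W, hW0, hW1, hW⟩
      have hVnt : Nontrivial V := Module.nontrivial_of_finrank_pos (R := K) (by omega)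
      -- an eigenvalue
      have heig : ∀ g, ∃ c : K, Module.End.HasEigenvalue (ρ g) c := by
        intro g
        have hd : (LinearMap.charpoly (ρ g)).degree ≠ 0 := by
          rw [degree_eq_natDegree (LinearMap.charpoly_monic _).ne_zero, LinearMap.charpoly_natDegree, hV]
          exact_mod_cast hn.ne'
        obtain ⟨c, hc⟩ := (hsp g).exists_eval_eq_zero hd
        exact ⟨c, (Module.End.hasEigenvalue_iff_isRoot_charpoly _ _).2 hc⟩
      -- Schur
      have schur : ∀ g, (∀ h, ρ g * ρ h = ρ h * ρ g) → ∃ c : K, ∀ v, ρ g v = c • v := by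
        intro g hg
        obtain ⟨c, hc⟩ := heig g
        refine ⟨c, fun v => ?_⟩
        have h1 : Module.End.eigenspace (ρ g) c = ⊤ := by
          refine hirr _ (fun h w hw => ?_) hc
          rw [Submodule.mem_comap, Module.End.mem_eigenspace_iff]
          rw [Module.End.mem_eigenspace_iff] at hw
          have := LinearMap.congr_fun (hg h) w
          rw [Module.End.mul_apply, Module.End.mul_apply] at this
          rw [this, hw, map_smul]
        have h2 : v ∈ Module.End.eigenspace (ρ g) c := h1 ▸ Submodule.mem_top
        exact Module.End.mem_eigenspace_iff.1 h2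
      by_cases hab : ∀ g h, ρ g * ρ h = ρ h * ρ g
      · -- abelian image: a linear character
        choose c hc using fun g => schur g (hab g)
        obtain ⟨v, hv⟩ := exists_ne (0 : V)
        have h1 : Submodule.span K {v} = ⊤ := by
          refine hirr _ (fun g w hw => ?_) ?_
          · rw [Submodule.mem_comap, hc]
            exact Submodule.smul_mem _ _ hw
          · rw [Ne, Submodule.span_singleton_eq_bot]
            exact hv
        have hdim : Module.finrank K V = 1 := by
          rw [← finrank_top, ← h1, finrank_span_singleton hv]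
        let μ : G →* ℂ := (θ : K →* ℂ).comp ((LinearMap.det : (V →ₗ[K] V) →* K).comp ρ)
        refine isGeneralizedCharacter_congr (Characters.Brauer.isGeneralizedCharacter_of_isCharacter
          (Characters.Brauer.isCharacter_of_monoidHom μ)) fun g => ?_
        have h2 : LinearMap.charpoly (ρ g) = X - C (LinearMap.det (ρ g)) := by
          have hmon := LinearMap.charpoly_monic (ρ g)
          have hdeg : (LinearMap.charpoly (ρ g)).natDegree = 1 := by
            rw [LinearMap.charpoly_natDegree, hdim]
          have hco := LinearMap.det_eq_sign_charpoly_coeff (ρ g)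
          rw [hdim, pow_one] at hco
          rw [hmon.eq_X_add_C hdeg, hco]
          simp
        show bl θ (ρ g) = θ (LinearMap.det (ρ g))
        rw [bl, h2, roots_X_sub_C, Multiset.map_singleton, Multiset.sum_singleton]
      · -- the element `a`
        have hnab : ¬ ∀ x y : (MonoidHom.toHomUnits ρ).range, x * y = y * x := by
          intro h
          apply hab
          intro x y
          have h1 := h ⟨_, x, rfl⟩ ⟨_, y, rfl⟩
          exact congrArg (fun z : (MonoidHom.toHomUnits ρ).range => ((z : (Module.End K V)ˣ) : Module.End K V)) h1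
        have hnil : Group.IsNilpotent (MonoidHom.toHomUnits ρ).range :=
          Group.nilpotent_of_surjective (MonoidHom.toHomUnits ρ).rangeRestrict
            (MonoidHom.rangeRestrict_surjective _)
        obtain ⟨⟨_, a, rfl⟩, ha, hcomm⟩ := exists_second_center _ hnab
        have hζ : ∀ g, ∃ c : K, ρ g * ρ a = c • (ρ a * ρ g) := by
          intro g
          have h1 := hcomm ⟨_, g, rfl⟩
          rw [Subgroup.mem_center_iff] at h1
          obtain ⟨c, hc⟩ := schur (g * a * g⁻¹ * a⁻¹) (fun h => by
            have h2 := h1 ⟨_, h, rfl⟩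
            have h3 := congrArg (fun z : (MonoidHom.toHomUnits ρ).range =>
              ((z : (Module.End K V)ˣ) : Module.End K V)) h2
            have h4 : ρ h * (ρ g * ρ a * ρ g⁻¹ * ρ a⁻¹) = (ρ g * ρ a * ρ g⁻¹ * ρ a⁻¹) * ρ h := h3
            rw [map_mul, map_mul, map_mul, h4])
          refine ⟨c, ?_⟩
          have h5 : ρ (g * a) = ρ (g * a * g⁻¹ * a⁻¹) * ρ (a * g) := by
            rw [← map_mul]
            congr 1
            group
          rw [← map_mul, ← map_mul, h5]
          apply LinearMap.ext
          intro v
          rw [Module.End.mul_apply, hc]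
          rfl
        choose ζ' hζ' using hζ
        have huniq : ∀ g (c c' : K), c • (ρ a * ρ g) = c' • (ρ a * ρ g) → c = c' := by
          intro g c c' h
          obtain ⟨v, hv⟩ := exists_ne (0 : V)
          have h1 : (ρ a * ρ g) v ≠ 0 := by
            intro h0
            rw [← map_mul] at h0
            exact hv ((rhoEquiv ρ (a * g)).map_eq_zero_iff.1 h0)
          have h2 := LinearMap.congr_fun h v
          rw [LinearMap.smul_apply, LinearMap.smul_apply] at h2
          exact smul_left_injective K h1 h2
        let ζ : G →* K :=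
          { toFun := ζ'
            map_one' := by
              refine huniq 1 _ _ ?_
              rw [← hζ' 1, map_one, one_mul, mul_one, one_smul]
            map_mul' := fun g h => by
              refine huniq (g * h) _ _ ?_
              rw [← hζ' (g * h), map_mul, mul_assoc, hζ' h, mul_smul_comm, ← mul_assoc, hζ' g,
                smul_mul_assoc, smul_smul, mul_assoc, mul_comm (ζ' h)] }
        have hζ : ∀ g, ρ g * ρ a = ζ g • (ρ a * ρ g) := hζ'
        have hζ0 : ∀ g, ζ g ≠ 0 := by
          intro g h0
          have : ζ g * ζ g⁻¹ = 1 := by rw [← map_mul, mul_inv_cancel, map_one]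
          rw [h0, zero_mul] at this
          exact zero_ne_one this
        have hζi : ∀ g, ζ g⁻¹ = (ζ g)⁻¹ := by
          intro g
          apply eq_inv_of_mul_eq_one_left
          rw [← map_mul, inv_mul_cancel, map_one]
        let M : Subgroup G := ζ.ker
        have hMn : M.Normal := inferInstance
        have hM : ∀ g, g ∈ M ↔ ζ g = 1 := fun g => MonoidHom.mem_ker
        obtain ⟨l, hl⟩ := heig a
        have hl0 : l ≠ 0 := by
          rintro rfl
          obtain ⟨v, hv⟩ := hl.exists_hasEigenvector
          have h1 := hv.apply_eq_smul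
          rw [zero_smul] at h1
          exact hv.2 ((rhoEquiv ρ a).map_eq_zero_iff.1 h1)
        -- moving eigenspaces
        have hmove : ∀ g μ, ∀ v ∈ Module.End.eigenspace (ρ a) μ,
            ρ g v ∈ Module.End.eigenspace (ρ a) ((ζ g)⁻¹ * μ) := by
          intro g μ v hv
          rw [Module.End.mem_eigenspace_iff] at hv ⊢
          have h1 := LinearMap.congr_fun (hζ g) v
          rw [Module.End.mul_apply, LinearMap.smul_apply, Module.End.mul_apply, hv, map_smul] at h1
          rw [mul_smul, h1, inv_smul_smul₀ (hζ0 g)]
        have hmap : ∀ g μ, (Module.End.eigenspace (ρ a) μ).map (rhoEquiv ρ g : V →ₗ[K] V) =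
            Module.End.eigenspace (ρ a) ((ζ g)⁻¹ * μ) := by
          intro g μ
          apply le_antisymm
          · rintro _ ⟨v, hv, rfl⟩
            exact hmove g μ v hv
          · intro v hv
            refine ⟨ρ g⁻¹ v, ?_, ?_⟩
            · have h1 := hmove g⁻¹ _ v hv
              rwa [hζi, inv_inv, mul_inv_cancel_left₀ (hζ0 g)] at h1
            · show ρ g (ρ g⁻¹ v) = v
              rw [← Module.End.mul_apply, ← map_mul, mul_inv_cancel, map_one]
              rfl
        -- the sum of the eigenspaces is everything
        let S : Finset K := Finset.univ.image fun x : G => (ζ x)⁻¹ * l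
        have hStop : (S.sup fun μ => Module.End.eigenspace (R := K) (M := V) (ρ a) μ) = ⊤ := by
          refine hirr _ (fun g => ?_) ?_
          · rw [Finset.sup_le_iff]
            intro μ hμ v hv
            have h1 := hmove g μ v hv
            have h2 : (ζ g)⁻¹ * μ ∈ S := by
              obtain ⟨x, -, rfl⟩ := Finset.mem_image.1 hμ
              refine Finset.mem_image.2 ⟨g * x, Finset.mem_univ _, ?_⟩
              rw [map_mul, mul_inv, mul_assoc]
            exact (Finset.le_sup (f := fun μ => Module.End.eigenspace (R := K) (M := V) (ρ a) μ) h2) h1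
          · intro h
            have h1 : l ∈ S := Finset.mem_image.2 ⟨1, Finset.mem_univ _, by rw [map_one, inv_one, one_mul]⟩
            have h2 := Finset.le_sup (f := fun μ => Module.End.eigenspace (R := K) (M := V) (ρ a) μ) h1
            rw [h, le_bot_iff] at h2
            exact hl h2
        -- the representation of `M` on the eigenspace
        have hMst : ∀ m ∈ M, Module.End.eigenspace (ρ a) l ≤ (Module.End.eigenspace (ρ a) l).comap (ρ m) := by
          intro m hm v hv
          have h1 := hmove m l v hv
          rwa [(hM m).1 hm, inv_one, one_mul] at h1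
        have hlt : Module.finrank K (Module.End.eigenspace (ρ a) l) < n := by
          rw [← hV]
          refine Submodule.finrank_lt fun htop => ?_
          have h1 : ∀ v, ρ a v = l • v := fun v =>
            Module.End.mem_eigenspace_iff.1 (htop ▸ Submodule.mem_top)
          apply ha
          rw [Subgroup.mem_center_iff]
          rintro ⟨_, g, rfl⟩
          apply Subtype.ext
          apply Units.ext
          show ρ g * ρ a = ρ a * ρ g
          apply LinearMap.ext
          intro v
          rw [Module.End.mul_apply, Module.End.mul_apply, h1, h1, map_smul]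
        have hspM : ∀ m : M, (LinearMap.charpoly (restrictRep ρ M _ hMst m)).Splits := by
          intro m
          refine (hsp m).of_dvd (LinearMap.charpoly_monic _).ne_zero ?_
          exact Dvd.intro _ (charpoly_eq_mul (Module.End.eigenspace (ρ a) l) (ρ m) (hMst m m.2)).symm
        have hgen := ih _ hlt M (Module.End.eigenspace (ρ a) l) rfl (restrictRep ρ M _ hMst) hspM
        refine isGeneralizedCharacter_congr (Characters.Brauer.isGeneralizedCharacter_indFun M hgen) fun g => ?_
        rw [Characters.Core.indFun_apply]
        by_cases hg : g ∈ M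
        · have h1 : ∀ x : G, extendByZero M (fun m : M => bl θ (restrictRep ρ M _ hMst m)) (x⁻¹ * g * x) =
              blr θ (ρ g) (Module.End.eigenspace (ρ a) ((ζ x)⁻¹ * l)) := by
            intro x
            have hx : x⁻¹ * g * x ∈ M := by
              have := hMn.conj_mem g hg x⁻¹
              rwa [inv_inv] at this
            rw [Characters.Core.extendByZero_of_mem M _ hx, ← hmap x l,
              blr_map θ (rhoEquiv ρ x) (e := ρ (x⁻¹ * g * x)), blr_of θ (hMst _ hx)]
            · rfl
            · intro v
              rw [rhoEquiv_apply, rhoEquiv_apply, ← Module.End.mul_apply, ← Module.End.mul_apply,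
                ← map_mul, ← map_mul]
              congr 2
              group
          rw [Finset.sum_congr rfl fun x _ => h1 x,
            Finset.sum_comp (fun μ => blr θ (ρ g) (Module.End.eigenspace (ρ a) μ)) (fun x : G => (ζ x)⁻¹ * l)]
          have h2 : ∀ μ ∈ S, (Finset.univ.filter fun x : G => (ζ x)⁻¹ * l = μ).card = Nat.card M := by
            intro μ hμ
            obtain ⟨x₀, -, rfl⟩ := Finset.mem_image.1 hμ
            have h5 : Nat.card M = (Finset.univ.filter fun x : G => x ∈ M).card := by
              rw [Nat.card_eq_fintype_card]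
              exact Fintype.card_subtype _
            rw [h5]
            refine Finset.card_nbij' (fun x => x₀⁻¹ * x) (fun x => x₀ * x) ?_ ?_ ?_ ?_
            · intro x hx
              rw [Finset.mem_coe, Finset.mem_filter] at hx ⊢
              refine ⟨Finset.mem_univ _, ?_⟩
              have h6 := inv_injective (mul_right_cancel₀ hl0 hx.2)
              rw [hM, map_mul, hζi, h6, inv_mul_cancel₀ (hζ0 _)]
            · intro x hx
              rw [Finset.mem_coe, Finset.mem_filter] at hx ⊢
              refine ⟨Finset.mem_univ _, ?_⟩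
              rw [map_mul, (hM x).1 hx.2, mul_one]
            · intro x _
              exact mul_inv_cancel_left x₀ x
            · intro x _
              exact inv_mul_cancel_left x₀ x
          rw [Finset.sum_congr rfl fun μ hμ => congrArg (· • _) (h2 μ hμ), ← Finset.smul_sum,
            nsmul_eq_mul, inv_mul_cancel_left₀ (Nat.cast_ne_zero.2 Nat.card_pos.ne')]
          have h3 := (blr_eigen θ (e := ρ g) (D := ρ a) (fun v => ?_) S).2
          · rw [hStop, blr_top] at h3
            exact h3
          · have h4 := LinearMap.congr_fun (hζ g) v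
            rw [(hM g).1 hg, one_smul] at h4
            exact h4
        · have h1 : ∀ x : G, extendByZero M (fun m : M => bl θ (restrictRep ρ M _ hMst m)) (x⁻¹ * g * x) = 0 := by
            intro x
            refine Characters.Core.extendByZero_of_notMem M _ fun hx => hg ?_
            have := hMn.conj_mem _ hx x
            convert this using 1
            group
          rw [Finset.sum_congr rfl fun x _ => h1 x, Finset.sum_const_zero, mul_zero]
          have h2 : bl θ (ρ g) = θ (ζ g) * bl θ (ρ g) := by
            conv_lhs => rw [bl_conj θ (rhoEquiv ρ a) (e := ζ g • ρ g) (e' := ρ g) (fun v => by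
              have := LinearMap.congr_fun (hζ g) v
              rw [Module.End.mul_apply, LinearMap.smul_apply, Module.End.mul_apply] at this
              rw [rhoEquiv_apply, rhoEquiv_apply, this, LinearMap.smul_apply, map_smul])]
            rw [bl_smul θ (hsp g) (hζ0 g)]
          have h3 : θ (ζ g) ≠ 1 := by
            intro h
            apply hg
            rw [hM]
            apply hθ
            rw [h, map_one]
          have h4 : (1 - θ (ζ g)) * bl θ (ρ g) = 0 := by
            rw [sub_mul, one_mul, ← h2, sub_self]
          exact (mul_eq_zero.1 h4).resolve_left (sub_ne_zero.2 h3.symm)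

/-- **The Brauer lift of a representation is a generalized character.** -/
theorem lift_generalized (θ : K →*₀ ℂ) (hθ : Function.Injective θ) (G : Type w) [Group G] [Finite G]
    (V : Type v) [AddCommGroup V] [Module K V] [FiniteDimensional K V] (ρ : Representation K G V)
    (hsp : ∀ g, (LinearMap.charpoly (ρ g)).Splits) : IsGeneralizedCharacter G (fun g => bl θ (ρ g)) := by
  refine Characters.Brauer.brauer_characterization _ ?_ ?_
  · intro g h
    refine bl_conj θ (rhoEquiv ρ h) fun v => ?_
    rw [rhoEquiv_apply, rhoEquiv_apply, ← Module.End.mul_apply, ← Module.End.mul_apply,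
      ← map_mul, ← map_mul]
    congr 2
    group
  · intro E p hp hE
    have : Group.IsNilpotent E := Characters.Elementary.isNilpotent_of_isElementary hp hE
    exact lift_nilpotent θ hθ _ E V rfl (ρ.comp E.subtype) fun g => hsp g

end rep

end Cfsg.Agent.H139.Cusp
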