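import Cfsg.Agent.H139.Cusp.Values
import Mathlib.LinearAlgebra.GeneralLinearGroup.Basic
import Mathlib.RingTheory.Polynomial.DegreeLT
import Mathlib.Analysis.Complex.Basic

/-!
# The pairing of two functions `kap`
-/

set_option autoImplicit false

open Polynomial
open scoped ComplexConjugate

namespace Cfsg.Agent.H139.Cusp

universe u v

attribute [local instance] fintypeHom fintypeSub finite_quot

variable {F : Type u} [Field F]

section

variable {V : Type v} [AddCommGroup V] [Module F V] [Finite V]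
variable (B : F[X] → ℂ)

omit [Finite V] in
theorem inv_add_phi_iff {N : Submodule F V} (g : V →ₗ[F] V) (t : (V ⧸ N) →ₗ[F] N) :
    N ≤ N.comap (g + phi N t) ↔ N ≤ N.comap g := by
  constructor
  · intro h x hx
    have h1 := h hx
    rw [Submodule.mem_comap, LinearMap.add_apply] at h1
    exact (Submodule.add_mem_iff_left N (phi_mem N t x)).1 h1
  · intro h
    exact add_phi_inv h t

/-- Orthogonality to functions that are constant on the cosets of the unipotent radical. -/
theorem orth (hB : ∀ p q : F[X], p.Monic → q.Monic → B (p * q) = B p + B q)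
    {N : Submodule F V} (hN0 : N ≠ ⊥) (hN1 : N ≠ ⊤) (w : (V →ₗ[F] V) → ℂ)
    (hw0 : ∀ g, ¬ N ≤ N.comap g → w g = 0)
    (hw1 : ∀ g, N ≤ N.comap g → ∀ t : (V ⧸ N) →ₗ[F] N, w (g + phi N t) = w g) :
    ∑ g : V →ₗ[F] V, kap B g ⊤ * w g = 0 := by
  have hcard : (Fintype.card ((V ⧸ N) →ₗ[F] N) : ℂ) ≠ 0 := by
    have : Nonempty ((V ⧸ N) →ₗ[F] N) := ⟨0⟩
    exact Nat.cast_ne_zero.2 Fintype.card_ne_zero
  have h2 : (Fintype.card ((V ⧸ N) →ₗ[F] N) : ℂ) * ∑ g : V →ₗ[F] V, kap B g ⊤ * w g = 0 := by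
    have h3 : ∀ t : (V ⧸ N) →ₗ[F] N, ∑ g : V →ₗ[F] V, kap B g ⊤ * w g =
        ∑ g : V →ₗ[F] V, kap B (g + phi N t) ⊤ * w (g + phi N t) := by
      intro t
      exact (Fintype.sum_equiv (Equiv.addRight (phi N t)) _ _ fun g => rfl).symm
    rw [← nsmul_eq_mul, ← Finset.card_univ, ← Finset.sum_const,
      Finset.sum_congr rfl fun t _ => h3 t, Finset.sum_comm]
    refine Finset.sum_eq_zero fun g _ => ?_
    by_cases hg : N ≤ N.comap g
    · rw [Finset.sum_congr rfl fun t _ => congrArg (kap B (g + phi N t) ⊤ * ·) (hw1 g hg t),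
        ← Finset.sum_mul, kap_vanish B hB _ V rfl N g hg hN0 hN1, zero_mul]
    · refine Finset.sum_eq_zero fun t _ => ?_
      rw [hw0 _ (fun h => hg ((inv_add_phi_iff g t).1 h)), mul_zero]
  exact (mul_eq_zero.1 h2).resolve_left hcard

theorem isUnit_iff_coeff (g : V →ₗ[F] V) : IsUnit g ↔ g.charpoly.coeff 0 ≠ 0 := by
  rw [LinearMap.isUnit_iff_isUnit_det, LinearMap.det_eq_sign_charpoly_coeff, isUnit_iff_ne_zero]
  constructor
  · intro h h0
    exact h (by rw [h0, mul_zero])
  · intro h h0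
    rcases mul_eq_zero.1 h0 with h1 | h1
    · exact pow_ne_zero _ (neg_ne_zero.2 one_ne_zero) h1
    · exact h h1

/-- the invariant subspace generated by a vector -/
def gen (g : V →ₗ[F] V) (v : V) : Submodule F V := sInf {W | W ≤ W.comap g ∧ v ∈ W}

omit [Finite V] in
theorem gen_le {g : V →ₗ[F] V} {v : V} {W : Submodule F V} (hW : W ≤ W.comap g) (hv : v ∈ W) :
    gen g v ≤ W := sInf_le ⟨hW, hv⟩

omit [Finite V] in
theorem mem_gen (g : V →ₗ[F] V) (v : V) : v ∈ gen g v := by
  rw [gen, Submodule.mem_sInf]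
  exact fun W hW => hW.2

omit [Finite V] in
theorem gen_inv (g : V →ₗ[F] V) (v : V) : gen g v ≤ (gen g v).comap g := by
  intro x hx
  rw [Submodule.mem_comap]
  rw [gen, Submodule.mem_sInf] at hx ⊢
  exact fun W hW => hW.1 (hx W hW)

omit [Finite V] in
theorem gen_add_phi {N : Submodule F V} {g : V →ₗ[F] V} (hg : N ≤ N.comap g) (t : (V ⧸ N) →ₗ[F] N) {v : V} :
    gen (g + phi N t) v = N ↔ gen g v = N := by
  have key : ∀ (g : V →ₗ[F] V) (_ : N ≤ N.comap g) (t : (V ⧸ N) →ₗ[F] N), gen g v = N →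
      gen (g + phi N t) v = N := by
    intro g hg t h
    have hv : v ∈ N := h ▸ mem_gen g v
    have h1 : gen (g + phi N t) v ≤ N := gen_le (add_phi_inv hg t) hv
    apply le_antisymm h1
    have h2 : gen (g + phi N t) v ≤ (gen (g + phi N t) v).comap g := by
      intro x hx
      have h3 := gen_inv (g + phi N t) v hx
      rw [Submodule.mem_comap, LinearMap.add_apply, phi_of_mem N t (h1 hx), add_zero] at h3
      exact h3
    conv_lhs => rw [← h]
    exact gen_le h2 (mem_gen _ _)
  constructor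
  · intro h
    have h1 := key (g + phi N t) (add_phi_inv hg t) (-t) h
    rwa [add_assoc, ← phi_add, add_neg_cancel, show phi N (0 : (V ⧸ N) →ₗ[F] N) = 0 from by
      ext v; simp [phi_apply], add_zero] at h1
  · exact key g hg t

open Classical in
/-- reduction to cyclic pairs -/
theorem sum_cyclic (hB : ∀ p q : F[X], p.Monic → q.Monic → B (p * q) = B p + B q)
    (D : F[X] → ℂ) [Fintype V] [Nontrivial V] :
    ((Fintype.card V : ℂ) - 1) * ∑ g : V →ₗ[F] V, kap B g ⊤ * D g.charpoly =
      ∑ p : {p : (V →ₗ[F] V) × V // gen p.1 p.2 = ⊤}, kap B p.1.1 ⊤ * D p.1.1.charpoly := by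
  have h1 : ∀ v : V, v ≠ 0 → ∑ g : V →ₗ[F] V, kap B g ⊤ * D g.charpoly =
      ∑ g : V →ₗ[F] V, if gen g v = ⊤ then kap B g ⊤ * D g.charpoly else 0 := by
    intro v hv
    have h2 : ∑ g : V →ₗ[F] V, kap B g ⊤ * D g.charpoly =
        ∑ N : Submodule F V, ∑ g : V →ₗ[F] V, if gen g v = N then kap B g ⊤ * D g.charpoly else 0 := by
      rw [Finset.sum_comm]
      refine Finset.sum_congr rfl fun g _ => ?_
      rw [Finset.sum_ite_eq]
      simp
    rw [h2]
    refine Finset.sum_eq_single (⊤ : Submodule F V) ?_ (fun h => absurd (Finset.mem_univ _) h)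
    intro N _ hN
    by_cases hvN : v ∈ N
    · have hN0 : N ≠ ⊥ := by
        rintro rfl
        exact hv ((Submodule.mem_bot F).1 hvN)
      refine Eq.trans (Finset.sum_congr rfl fun g _ => ?_)
        (orth B hB hN0 hN (fun g => if gen g v = N then D g.charpoly else 0) ?_ ?_)
      · split_ifs <;> simp
      · intro g hg
        rw [if_neg]
        rintro rfl
        exact hg (gen_inv g v)
      · intro g hg t
        simp only [gen_add_phi hg t, charpoly_add_phi hg t]
    · refine Finset.sum_eq_zero fun g _ => ?_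
      rw [if_neg]
      rintro rfl
      exact hvN (mem_gen g v)
  have h3 : ∀ g : V →ₗ[F] V, gen g (0 : V) ≠ ⊤ := by
    intro g h
    have h4 : gen g (0 : V) ≤ ⊥ := gen_le bot_le (Submodule.zero_mem _)
    rw [h, top_le_iff] at h4
    exact bot_ne_top h4
  have h4 : ∑ v ∈ Finset.univ.filter (fun v : V => v ≠ 0), ∑ g : V →ₗ[F] V,
      kap B g ⊤ * D g.charpoly = ((Fintype.card V : ℂ) - 1) * ∑ g : V →ₗ[F] V, kap B g ⊤ * D g.charpoly := by
    rw [Finset.sum_const, nsmul_eq_mul]
    congr 1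
    rw [Finset.filter_ne', Finset.card_erase_of_mem (Finset.mem_univ _), Finset.card_univ,
      Nat.cast_sub Fintype.card_pos, Nat.cast_one]
  rw [← h4, Finset.sum_congr rfl fun v hv => h1 v (Finset.mem_filter.1 hv).2]
  have h5 : ∑ v ∈ Finset.univ.filter (fun v : V => v ≠ 0), ∑ g : V →ₗ[F] V,
      (if gen g v = ⊤ then kap B g ⊤ * D g.charpoly else 0) =
      ∑ v : V, ∑ g : V →ₗ[F] V, (if gen g v = ⊤ then kap B g ⊤ * D g.charpoly else 0) := by
    refine Finset.sum_subset (Finset.filter_subset _ _) ?_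
    intro v _ hv
    have hv0 : v = 0 := by
      by_contra h
      exact hv (Finset.mem_filter.2 ⟨Finset.mem_univ _, h⟩)
    rw [hv0]
    exact Finset.sum_eq_zero fun g _ => if_neg (h3 g)
  rw [h5, Finset.sum_comm, ← Fintype.sum_prod_type', ← Finset.sum_filter]
  exact Finset.sum_subtype _ (by simp) _

end

/-! ### cyclic pairs and cyclic modules -/

/-- monic polynomials of degree `n` -/
abbrev MonN (F : Type u) [Field F] (n : ℕ) : Type u := {h : F[X] // h.Monic ∧ h.natDegree = n}

theorem finite_monN [Finite F] (n : ℕ) : Finite (MonN F n) := by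
  have h1 : Finite (degreeLT F (n + 1)) := Finite.of_equiv _ (degreeLTEquiv F (n + 1)).symm.toEquiv
  refine Finite.of_injective (fun h : MonN F n => (⟨h.1, ?_⟩ : degreeLT F (n + 1))) ?_
  · rw [mem_degreeLT]
    have := degree_le_natDegree (p := h.1)
    rw [h.2.2] at this
    exact this.trans_lt (by exact_mod_cast Nat.lt_succ_self n)
  · intro h h' hh
    exact Subtype.ext (congrArg (fun x : degreeLT F (n + 1) => (x : F[X])) hh)

section

open AdjoinRoot

variable {V : Type v} [AddCommGroup V] [Module F V]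

theorem conj_root_apply {h : F[X]} (e : AdjoinRoot h ≃ₗ[F] V) (x : AdjoinRoot h) :
    e.conj (rootEnd h) (e x) = e (root h * x) := by
  rw [LinearEquiv.conj_apply_apply, LinearEquiv.symm_apply_apply]
  rfl

theorem aeval_conj_root {h : F[X]} (e : AdjoinRoot h ≃ₗ[F] V) (p : F[X]) (x : AdjoinRoot h) :
    aeval (e.conj (rootEnd h)) p (e x) = e (mk h p * x) := by
  induction p using Polynomial.induction_on' with
  | add p q hp hq => rw [map_add, map_add, LinearMap.add_apply, hp, hq, add_mul, map_add]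
  | monomial n a =>
    have h1 : mk h (monomial n a) = algebraMap F (AdjoinRoot h) a * root h ^ n := by
      rw [← C_mul_X_pow_eq_monomial, map_mul, map_pow, mk_X, mk_C]
      rfl
    rw [aeval_monomial, h1, mul_assoc, Module.End.mul_apply, Module.algebraMap_end_apply,
      ← Algebra.smul_def, map_smul]
    clear h1
    congr 1
    induction n with
    | zero => rw [pow_zero, pow_zero, one_mul]; rfl
    | succ n ih => rw [pow_succ', pow_succ', Module.End.mul_apply, ih, conj_root_apply, mul_assoc]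

theorem gen_conj_root {h : F[X]} (e : AdjoinRoot h ≃ₗ[F] V) :
    gen (e.conj (rootEnd h)) (e 1) = ⊤ := by
  rw [eq_top_iff]
  intro v _
  obtain ⟨x, rfl⟩ := e.surjective v
  obtain ⟨p, rfl⟩ := mk_surjective x
  have h1 := aeval_conj_root e p 1
  rw [mul_one] at h1
  rw [← h1]
  have h2 : ∀ (W : Submodule F V) (g : V →ₗ[F] V), W ≤ W.comap g → ∀ v ∈ W, ∀ p : F[X], aeval g p v ∈ W := by
    intro W g hW v hv p
    induction p using Polynomial.induction_on' with
    | add p q hp hq => rw [map_add, LinearMap.add_apply]; exact W.add_mem hp hq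
    | monomial n a =>
      rw [aeval_monomial, Module.End.mul_apply, Module.algebraMap_end_apply]
      apply W.smul_mem
      induction n with
      | zero => exact hv
      | succ n ih => rw [pow_succ', Module.End.mul_apply]; exact hW ih
  exact h2 _ _ (gen_inv _ _) _ (mem_gen _ _) _

variable [Finite V]

theorem pairs_bijective {n : ℕ} (hn : Module.finrank F V = n) :
    Function.Bijective (fun x : (Σ h : MonN F n, AdjoinRoot h.1 ≃ₗ[F] V) =>
      (⟨(x.2.conj (rootEnd x.1.1), x.2 1), gen_conj_root x.2⟩ :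
        {p : (V →ₗ[F] V) × V // gen p.1 p.2 = ⊤})) := by
  constructor
  · rintro ⟨h, e⟩ ⟨h', e'⟩ hh
    have hh1 : e.conj (rootEnd h.1) = e'.conj (rootEnd h'.1) :=
      congrArg (fun p : {p : (V →ₗ[F] V) × V // gen p.1 p.2 = ⊤} => p.1.1) hh
    have hh2 : e 1 = e' 1 :=
      congrArg (fun p : {p : (V →ₗ[F] V) × V // gen p.1 p.2 = ⊤} => p.1.2) hh
    have hf := (AdjoinRoot.powerBasis h.2.1.ne_zero).finite
    have hf' := (AdjoinRoot.powerBasis h'.2.1.ne_zero).finite
    have h1 : h = h' := by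
      apply Subtype.ext
      rw [← charpoly_rootEnd h.2.1, ← charpoly_rootEnd h'.2.1, ← LinearEquiv.charpoly_conj e,
        ← LinearEquiv.charpoly_conj e', hh1]
    subst h1
    have h2 : e = e' := by
      apply LinearEquiv.ext
      intro x
      obtain ⟨p, rfl⟩ := mk_surjective x
      have h3 := aeval_conj_root e p 1
      have h4 := aeval_conj_root e' p 1
      rw [mul_one] at h3 h4
      rw [← h3, ← h4, hh1, hh2]
    rw [h2]
  · rintro ⟨⟨g, v⟩, hgv⟩
    have hmon : g.charpoly.Monic := LinearMap.charpoly_monic g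
    have hdeg : g.charpoly.natDegree = n := by rw [LinearMap.charpoly_natDegree, hn]
    have hf := (AdjoinRoot.powerBasis hmon.ne_zero).finite
    -- the map `p ↦ p(g) v`
    let φ : F[X] →ₗ[F] V := (LinearMap.applyₗ v) ∘ₗ (aeval g : F[X] →ₐ[F] Module.End F V).toLinearMap
    have hφ : ∀ p, φ p = aeval g p v := fun p => rfl
    let I : Submodule F F[X] := (Ideal.span {g.charpoly}).restrictScalars F
    have hI : I ≤ LinearMap.ker φ := by
      intro p hp
      have hp' : p ∈ Ideal.span {g.charpoly} := hp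
      rw [Ideal.mem_span_singleton] at hp'
      obtain ⟨c, rfl⟩ := hp'
      rw [LinearMap.mem_ker, hφ, mul_comm, map_mul, LinearMap.aeval_self_charpoly, mul_zero]
      rfl
    let ψ : AdjoinRoot g.charpoly →ₗ[F] V := I.liftQ φ hI
    have hψ : ∀ p, ψ (mk _ p) = aeval g p v := fun p => rfl
    have hψg : ∀ x, ψ (root _ * x) = g (ψ x) := by
      intro x
      obtain ⟨p, rfl⟩ := mk_surjective x
      rw [← mk_X, ← map_mul, hψ, hψ, map_mul, aeval_X, Module.End.mul_apply]
    have hψs : Function.Surjective ψ := by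
      rw [← LinearMap.range_eq_top, eq_top_iff, ← hgv]
      refine gen_le ?_ ⟨mk _ 1, ?_⟩
      · rintro _ ⟨x, rfl⟩
        exact ⟨root _ * x, hψg x⟩
      · rw [hψ, map_one]
        rfl
    have hdim : Module.finrank F (AdjoinRoot g.charpoly) = Module.finrank F V := by
      rw [(AdjoinRoot.powerBasis hmon.ne_zero).finrank, AdjoinRoot.powerBasis_dim, hdeg, hn]
    have hψi : Function.Injective ψ :=
      (LinearMap.injective_iff_surjective_of_finrank_eq_finrank hdim).2 hψs
    let e := LinearEquiv.ofBijective ψ ⟨hψi, hψs⟩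
    refine ⟨⟨⟨g.charpoly, hmon, hdeg⟩, e⟩, ?_⟩
    apply Subtype.ext
    apply Prod.ext
    · apply LinearMap.ext
      intro w
      obtain ⟨x, rfl⟩ := e.surjective w
      show e.conj (rootEnd g.charpoly) (e x) = g (e x)
      rw [conj_root_apply]
      exact hψg x
    · show ψ 1 = v
      rw [show (1 : AdjoinRoot g.charpoly) = mk _ 1 from (map_one _).symm, hψ, map_one]
      rfl

open Classical in
theorem sum_pairs [Finite F] (B : F[X] → ℂ) (D : F[X] → ℂ) {n : ℕ} (hn : Module.finrank F V = n)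
    [Fintype (MonN F n)] [Fintype {p : (V →ₗ[F] V) × V // gen p.1 p.2 = ⊤}] :
    ∑ p : {p : (V →ₗ[F] V) × V // gen p.1 p.2 = ⊤}, kap B p.1.1 ⊤ * D p.1.1.charpoly =
      (Nat.card (V ≃ₗ[F] V) : ℂ) * ∑ h : MonN F n, kapR B h.1 h.2.1 * D h.1 := by
  have hfin : ∀ h : MonN F n, Finite (AdjoinRoot h.1) := fun h => finite_adjoin h.2.1.ne_zero
  have hfin2 : ∀ h : MonN F n, Finite (AdjoinRoot h.1 ≃ₗ[F] V) := fun h => DFunLike.finite _
  have hfin3 : ∀ h : MonN F n, Fintype (AdjoinRoot h.1 ≃ₗ[F] V) := fun h => Fintype.ofFinite _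
  have h1 := Fintype.sum_bijective _ (pairs_bijective (V := V) hn)
    (fun x => kapR B x.1.1 x.1.2.1 * D x.1.1) (fun p => kap B p.1.1 ⊤ * D p.1.1.charpoly) ?_
  · rw [← h1, Fintype.sum_sigma, Finset.mul_sum]
    refine Finset.sum_congr rfl fun h _ => ?_
    show ∑ _y : (AdjoinRoot h.1 ≃ₗ[F] V), kapR B h.1 h.2.1 * D h.1 = _
    rw [Finset.sum_const, nsmul_eq_mul]
    congr 2
    rw [Finset.card_univ, ← Nat.card_eq_fintype_card]
    have hdim : Module.finrank F (AdjoinRoot h.1) = Module.finrank F V := by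
      rw [(AdjoinRoot.powerBasis h.2.1.ne_zero).finrank, AdjoinRoot.powerBasis_dim, h.2.2, hn]
    have hf := (AdjoinRoot.powerBasis h.2.1.ne_zero).finite
    let e₀ := LinearEquiv.ofFinrankEq (AdjoinRoot h.1) V hdim
    refine Nat.card_congr ⟨fun e => e₀.symm.trans e, fun e => e₀.trans e, fun e => ?_, fun e => ?_⟩
    · ext x; simp
    · ext x; simp
  · rintro ⟨h, e⟩
    have := finite_adjoin (F := F) h.2.1.ne_zero
    show kap B (rootEnd h.1) ⊤ * D h.1 = kap B (e.conj (rootEnd h.1)) ⊤ * D (e.conj (rootEnd h.1)).charpoly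
    congr 1
    · have h3 := kap_map B (e : AdjoinRoot h.1 →ₗ[F] V) e.injective (g := rootEnd h.1)
        (g' := e.conj (rootEnd h.1)) (fun v => conj_root_apply e v) ⊤
      rw [← h3, Submodule.map_top, LinearEquiv.range]
    · rw [LinearEquiv.charpoly_conj, charpoly_rootEnd h.2.1]

end

end Cfsg.Agent.H139.Cusp
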