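import Cfsg.Agent.H139.Cusp.Vanish
import Mathlib.RingTheory.AdjoinRoot
import Mathlib.RingTheory.Norm.Basic
import Mathlib.LinearAlgebra.Charpoly.ToMatrix
import Mathlib.FieldTheory.Minpoly.Field
import Mathlib.RingTheory.Polynomial.UniqueFactorization
import Mathlib.LinearAlgebra.Matrix.Charpoly.Minpoly

/-!
# Values of `kap` on cyclic modules
-/

set_option autoImplicit false

open Polynomial

namespace Cfsg.Agent.H139.Cusp

universe u v

attribute [local instance] fintypeHom fintypeSub finite_quot

variable {F : Type u} [Field F]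

section

variable {V : Type v} [AddCommGroup V] [Module F V] [Finite V]
variable (B : F[X] → ℂ)

theorem kap_top_of_max (hB : ∀ p q : F[X], p.Monic → q.Monic → B (p * q) = B p + B q)
    {g : V →ₗ[F] V} {M : Submodule F V} (hM : M ≤ M.comap g) (hne : M ≠ ⊤)
    (hmax : ∀ W : Submodule F V, W ≤ W.comap g → W ≠ ⊤ → W ≤ M) :
    kap B g ⊤ = B (M.mapQ M g hM).charpoly := by
  classical
  have h1 := kap_sum_top B g
  rw [← Finset.sum_filter_add_sum_filter_not Finset.univ (fun W : Submodule F V => W ≤ M), kap_sum B hM,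
    charpoly_eq_mul M g hM, hB _ _ (LinearMap.charpoly_monic _) (LinearMap.charpoly_monic _)] at h1
  have h2 : ∑ W ∈ Finset.univ.filter (fun W : Submodule F V => ¬ W ≤ M), kap B g W = kap B g ⊤ := by
    refine Finset.sum_eq_single (⊤ : Submodule F V) ?_ ?_
    · intro W hW hWtop
      rw [Finset.mem_filter] at hW
      exact kap_of_not B fun h => hW.2 (hmax W h hWtop)
    · intro h
      exfalso
      apply h
      rw [Finset.mem_filter]
      exact ⟨Finset.mem_univ _, fun h => hne (top_le_iff.1 h)⟩
  rw [h2] at h1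
  linear_combination h1

theorem charpoly_compl {g : V →ₗ[F] V} {A C : Submodule F V} (hAC : IsCompl A C)
    (hA : A ≤ A.comap g) (hC : C ≤ C.comap g) :
    g.charpoly = (g.restrict hA).charpoly * (g.restrict hC).charpoly := by
  rw [charpoly_eq_mul A g hA]
  congr 1
  refine (charpoly_conj_eq (A.quotientEquivOfIsCompl C hAC).symm fun v => ?_)
  rw [Submodule.quotientEquivOfIsCompl_symm_apply, Submodule.quotientEquivOfIsCompl_symm_apply]
  rfl

theorem B_charpoly_compl (hB : ∀ p q : F[X], p.Monic → q.Monic → B (p * q) = B p + B q)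
    {g : V →ₗ[F] V} {W A C : Submodule F V} (hd : Disjoint A C) (hs : A ⊔ C = W)
    (hW : W ≤ W.comap g) (hA : A ≤ A.comap g) (hC : C ≤ C.comap g) :
    B (g.restrict hW).charpoly = B (g.restrict hA).charpoly + B (g.restrict hC).charpoly := by
  have hAW : A ≤ W := hs ▸ le_sup_left
  have hCW : C ≤ W := hs ▸ le_sup_right
  have h1 : IsCompl (A.comap W.subtype) (C.comap W.subtype) := by
    constructor
    · rw [Submodule.disjoint_def]
      intro x hx hx'
      exact Subtype.ext (Submodule.disjoint_def.1 hd x hx hx')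
    · rw [codisjoint_iff]
      apply Submodule.map_injective_of_injective W.injective_subtype
      rw [Submodule.map_sup, Submodule.map_comap_subtype, Submodule.map_comap_subtype,
        inf_eq_right.2 hAW, inf_eq_right.2 hCW, hs, Submodule.map_top, Submodule.range_subtype]
  have hA' : A.comap W.subtype ≤ (A.comap W.subtype).comap (g.restrict hW) := fun x hx => hA hx
  have hC' : C.comap W.subtype ≤ (C.comap W.subtype).comap (g.restrict hW) := fun x hx => hC hx
  rw [charpoly_compl h1 hA' hC', hB _ _ (LinearMap.charpoly_monic _) (LinearMap.charpoly_monic _)]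
  congr 2
  · exact (charpoly_conj_eq (Submodule.comapSubtypeEquivOfLe hAW) fun v => rfl).symm
  · exact (charpoly_conj_eq (Submodule.comapSubtypeEquivOfLe hCW) fun v => rfl).symm

theorem kap_of_compl (hB : ∀ p q : F[X], p.Monic → q.Monic → B (p * q) = B p + B q)
    {g : V →ₗ[F] V} {A C : Submodule F V} (hd : Disjoint A C) (hA : A ≤ A.comap g) (hC : C ≤ C.comap g)
    (hdec : ∀ W : Submodule F V, W ≤ W.comap g → W = (W ⊓ A) ⊔ (W ⊓ C)) (W : Submodule F V)
    (hWA : W ⊓ A ≠ ⊥) (hWC : W ⊓ C ≠ ⊥) : kap B g W = 0 := by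
  classical
  induction W using WellFoundedLT.induction with
  | ind W ih =>
    by_cases hW : W ≤ W.comap g
    · have hWA' : W ⊓ A ≤ (W ⊓ A).comap g := fun x hx => ⟨hW hx.1, hA hx.2⟩
      have hWC' : W ⊓ C ≤ (W ⊓ C).comap g := fun x hx => ⟨hW hx.1, hC hx.2⟩
      have hd' : Disjoint (W ⊓ A) (W ⊓ C) := hd.mono inf_le_right inf_le_right
      have h1 := kap_sum B hW
      rw [B_charpoly_compl B hB hd' (hdec W hW).symm hW hWA' hWC', ← kap_sum B hWA', ← kap_sum B hWC',
        ← Finset.sum_filter_add_sum_filter_not (Finset.univ.filter (· ≤ W))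
          (fun W' : Submodule F V => W' ≤ A), Finset.filter_filter, Finset.filter_filter,
        ← Finset.sum_filter_add_sum_filter_not
          (Finset.univ.filter (fun W' : Submodule F V => W' ≤ W ∧ ¬ W' ≤ A))
          (fun W' : Submodule F V => W' ≤ C), Finset.filter_filter, Finset.filter_filter] at h1
      have h2 : ∑ W' ∈ Finset.univ.filter (fun W' : Submodule F V => W' ≤ W ∧ W' ≤ A), kap B g W' =
          ∑ W' ∈ Finset.univ.filter (fun W' : Submodule F V => W' ≤ W ⊓ A), kap B g W' := by
        refine Finset.sum_congr ?_ fun _ _ => rfl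
        ext x
        simp only [Finset.mem_filter, Finset.mem_univ, true_and, le_inf_iff]
      have h3 : ∑ W' ∈ Finset.univ.filter (fun W' : Submodule F V => (W' ≤ W ∧ ¬ W' ≤ A) ∧ W' ≤ C),
          kap B g W' = ∑ W' ∈ Finset.univ.filter (fun W' : Submodule F V => W' ≤ W ⊓ C), kap B g W' := by
        refine Finset.sum_subset ?_ ?_
        · intro x hx
          rw [Finset.mem_filter] at hx ⊢
          exact ⟨hx.1, le_inf hx.2.1.1 hx.2.2⟩
        · intro x hx hx'
          rw [Finset.mem_filter] at hx hx'
          have hxA : x ≤ A := by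
            by_contra h
            exact hx' ⟨hx.1, ⟨hx.2.trans inf_le_left, h⟩, hx.2.trans inf_le_right⟩
          have h4 : x = ⊥ := by
            rw [← disjoint_self]
            exact hd.mono hxA (hx.2.trans inf_le_right)
          rw [h4]
          exact kap_bot B hB g
      have h4 : ∑ W' ∈ Finset.univ.filter (fun W' : Submodule F V => (W' ≤ W ∧ ¬ W' ≤ A) ∧ ¬ W' ≤ C),
          kap B g W' = kap B g W := by
        refine Finset.sum_eq_single W ?_ ?_
        · intro x hx hxW
          rw [Finset.mem_filter] at hx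
          by_cases hxs : x ≤ x.comap g
          · refine ih x (lt_of_le_of_ne hx.2.1.1 hxW) ?_ ?_
            · intro h
              apply hx.2.2
              have := hdec x hxs
              rw [h, bot_sup_eq] at this
              rw [this]
              exact inf_le_right
            · intro h
              apply hx.2.1.2
              have := hdec x hxs
              rw [h, sup_bot_eq] at this
              rw [this]
              exact inf_le_right
          · exact kap_of_not B hxs
        · intro h
          exfalso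
          apply h
          rw [Finset.mem_filter]
          refine ⟨Finset.mem_univ _, ⟨le_rfl, fun h => ?_⟩, fun h => ?_⟩
          · apply hWC
            rw [← le_bot_iff]
            exact (le_inf (inf_le_left.trans h) inf_le_right).trans hd.le_bot
          · apply hWA
            rw [← le_bot_iff]
            exact (le_inf inf_le_right (inf_le_left.trans h)).trans hd.le_bot
      rw [h2, h3, h4] at h1
      linear_combination h1
    · exact kap_of_not B hW

end

/-! ### the cyclic modules -/

section adjoin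

open AdjoinRoot

/-- multiplication by the root -/
noncomputable def rootEnd (h : F[X]) : AdjoinRoot h →ₗ[F] AdjoinRoot h := LinearMap.mulLeft F (root h)

theorem rootEnd_apply (h : F[X]) (x : AdjoinRoot h) : rootEnd h x = root h * x := rfl

theorem finite_adjoin [Finite F] {h : F[X]} (hh : h ≠ 0) : Finite (AdjoinRoot h) := by
  have := (AdjoinRoot.powerBasis hh).finite
  exact Module.finite_of_finite F

theorem charpoly_rootEnd {h : F[X]} (hh : h.Monic) [Module.Finite F (AdjoinRoot h)] :
    (rootEnd h).charpoly = h := by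
  set b := AdjoinRoot.powerBasis hh.ne_zero
  have h2 := charpoly_leftMulMatrix b
  rw [AdjoinRoot.powerBasis_gen, AdjoinRoot.minpoly_root hh.ne_zero, hh.leadingCoeff, inv_one,
    map_one, mul_one] at h2
  rw [Algebra.leftMulMatrix_apply, LinearMap.charpoly_toMatrix] at h2
  exact h2

/-- invariant subspaces are ideals -/
theorem mul_mem_of_stable {h : F[X]} {W : Submodule F (AdjoinRoot h)} (hW : W ≤ W.comap (rootEnd h))
    {x : AdjoinRoot h} (hx : x ∈ W) (p : F[X]) : mk h p * x ∈ W := by
  induction p using Polynomial.induction_on' with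
  | add p q hp hq => rw [map_add, add_mul]; exact W.add_mem hp hq
  | monomial n a =>
    rw [← C_mul_X_pow_eq_monomial, map_mul, map_pow, mk_X, mk_C, mul_assoc, ← AdjoinRoot.algebraMap_eq,
      ← Algebra.smul_def]
    apply W.smul_mem
    induction n with
    | zero => rwa [pow_zero, one_mul]
    | succ n ih => rw [pow_succ', mul_assoc]; exact hW ih

/-- the value on a cyclic module -/
noncomputable def kapR (B : F[X] → ℂ) [Finite F] (h : F[X]) (hh : h.Monic) : ℂ :=
  haveI := finite_adjoin (F := F) hh.ne_zero
  kap B (rootEnd h) ⊤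

theorem kapR_pow [Finite F] (B : F[X] → ℂ) (hB : ∀ p q : F[X], p.Monic → q.Monic → B (p * q) = B p + B q)
    {f : F[X]} (hf : f.Monic) (hirr : Irreducible f) {m : ℕ} (hm : 0 < m) :
    kapR B (f ^ m) (hf.pow m) = B f := by
  have := finite_adjoin (F := F) (hf.pow m).ne_zero
  have := finite_adjoin (F := F) hf.ne_zero
  have hfact : Fact (Irreducible f) := ⟨hirr⟩
  have hroot : f.eval₂ (AdjoinRoot.of f) (root f) = 0 := eval₂_root f
  have hroot' : (f ^ m).eval₂ (AdjoinRoot.of f) (root f) = 0 := by
    rw [eval₂_pow, hroot, zero_pow hm.ne']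
  let π : AdjoinRoot (f ^ m) →ₐ[F] AdjoinRoot f :=
    AdjoinRoot.liftAlgHom (f ^ m) (Algebra.ofId F (AdjoinRoot f)) (root f) hroot'
  have hπ : ∀ p, π (mk (f ^ m) p) = mk f p := by
    intro p
    show (AdjoinRoot.lift _ _ hroot') (mk (f ^ m) p) = _
    rw [AdjoinRoot.lift_mk]
    induction p using Polynomial.induction_on' with
    | add p q hp hq => rw [eval₂_add, hp, hq, map_add]
    | monomial n a =>
      rw [eval₂_monomial, ← C_mul_X_pow_eq_monomial, map_mul, map_pow, mk_X, mk_C]
  have hπs : Function.Surjective π.toLinearMap := by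
    intro x
    obtain ⟨p, rfl⟩ := mk_surjective x
    exact ⟨mk _ p, hπ p⟩
  have hπg : ∀ x, π.toLinearMap (rootEnd (f ^ m) x) = rootEnd f (π.toLinearMap x) := by
    intro x
    show π (root _ * x) = root f * π x
    rw [map_mul]
    congr 1
    rw [← mk_X, hπ, mk_X]
  have hst : LinearMap.ker π.toLinearMap ≤ (LinearMap.ker π.toLinearMap).comap (rootEnd (f ^ m)) := by
    intro x hx
    rw [LinearMap.mem_ker] at hx
    rw [Submodule.mem_comap, LinearMap.mem_ker, hπg, hx, map_zero]
  show kap B (rootEnd (f ^ m)) ⊤ = B f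
  rw [kap_top_of_max B hB hst]
  · congr 1
    refine (charpoly_conj_eq (LinearMap.quotKerEquivOfSurjective _ hπs) ?_).symm.trans
      (charpoly_rootEnd hf)
    intro v
    obtain ⟨x, rfl⟩ := Submodule.mkQ_surjective _ v
    exact (hπg x).symm
  · intro h
    rw [LinearMap.ker_eq_top] at h
    have h1 := LinearMap.congr_fun h 1
    have h2 : π 1 = 0 := h1
    rw [map_one] at h2
    exact one_ne_zero h2
  · intro W hW hne x hx
    rw [LinearMap.mem_ker]
    by_contra h
    apply hne
    obtain ⟨p, rfl⟩ := mk_surjective x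
    have h1 : mk f p ≠ 0 := by
      intro h2
      apply h
      have h3 : π (mk (f ^ m) p) = 0 := by rw [hπ, h2]
      exact h3
    have h2 : ¬ f ∣ p := fun h2 => h1 (mk_eq_zero.2 h2)
    have h3 : IsCoprime (f ^ m) p := ((hirr.coprime_iff_not_dvd).2 h2).pow_left
    obtain ⟨a, b, hab⟩ := h3
    have h4 : mk (f ^ m) b * mk (f ^ m) p = 1 := by
      rw [← map_mul]
      have : mk (f ^ m) (a * f ^ m + b * p) = 1 := by rw [hab, map_one]
      rw [map_add, map_mul, mk_self, mul_zero, zero_add] at this
      exact this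
    have h5 : (1 : AdjoinRoot (f ^ m)) ∈ W := h4 ▸ mul_mem_of_stable hW hx b
    rw [eq_top_iff]
    intro y _
    obtain ⟨q, rfl⟩ := mk_surjective y
    have := mul_mem_of_stable hW h5 q
    rwa [mul_one] at this

theorem kapR_coprime [Finite F] (B : F[X] → ℂ)
    (hB : ∀ p q : F[X], p.Monic → q.Monic → B (p * q) = B p + B q)
    {p q : F[X]} (hpq : (p * q).Monic) (hp : ¬ IsUnit p) (hq : ¬ IsUnit q) (hc : IsCoprime p q) :
    kapR B (p * q) hpq = 0 := by
  have := finite_adjoin (F := F) hpq.ne_zero
  have hp0 : p ≠ 0 := left_ne_zero_of_mul hpq.ne_zero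
  have hq0 : q ≠ 0 := right_ne_zero_of_mul hpq.ne_zero
  set h := p * q with hh
  obtain ⟨a, b, hab⟩ := hc
  let A : Submodule F (AdjoinRoot h) := LinearMap.ker (LinearMap.mulLeft F (mk h p))
  let C : Submodule F (AdjoinRoot h) := LinearMap.ker (LinearMap.mulLeft F (mk h q))
  have hone : mk h a * mk h p + mk h b * mk h q = 1 := by
    rw [← map_mul, ← map_mul, ← map_add, hab, map_one]
  have hpq0 : mk h p * mk h q = 0 := by rw [← map_mul, ← hh, mk_self]
  have hd : Disjoint A C := by
    rw [Submodule.disjoint_def]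
    intro x hx hx'
    have h1 : mk h p * x = 0 := hx
    have h2 : mk h q * x = 0 := hx'
    rw [← one_mul x, ← hone, add_mul, mul_assoc, h1, mul_assoc, h2, mul_zero, mul_zero, add_zero]
  have hA : A ≤ A.comap (rootEnd h) := by
    intro x hx
    have h1 : mk h p * x = 0 := hx
    show mk h p * (root h * x) = 0
    rw [mul_left_comm, h1, mul_zero]
  have hC : C ≤ C.comap (rootEnd h) := by
    intro x hx
    have h1 : mk h q * x = 0 := hx
    show mk h q * (root h * x) = 0
    rw [mul_left_comm, h1, mul_zero]
  have hdec : ∀ W : Submodule F (AdjoinRoot h), W ≤ W.comap (rootEnd h) → W = (W ⊓ A) ⊔ (W ⊓ C) := by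
    intro W hW
    apply le_antisymm
    · intro x hx
      rw [← one_mul x, ← hone, add_mul, add_comm]
      apply Submodule.add_mem_sup
      · refine ⟨?_, ?_⟩
        · rw [← map_mul]
          exact mul_mem_of_stable hW hx _
        · show mk h p * (mk h b * mk h q * x) = 0
          rw [mul_assoc (mk h b), mul_left_comm, ← mul_assoc (mk h p), hpq0, zero_mul, mul_zero]
      · refine ⟨?_, ?_⟩
        · rw [← map_mul]
          exact mul_mem_of_stable hW hx _
        · show mk h q * (mk h a * mk h p * x) = 0
          rw [mul_assoc (mk h a), mul_left_comm, ← mul_assoc (mk h q), mul_comm (mk h q), hpq0,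
            zero_mul, mul_zero]
    · exact sup_le inf_le_left inf_le_left
  show kap B (rootEnd h) ⊤ = 0
  refine kap_of_compl B hB hd hA hC hdec ⊤ ?_ ?_
  · rw [top_inf_eq]
    intro hbot
    have h1 : mk h q ∈ A := hpq0
    rw [hbot, Submodule.mem_bot, mk_eq_zero] at h1
    obtain ⟨c, hc⟩ := h1
    apply hp
    refine IsUnit.of_mul_eq_one c ?_
    apply mul_right_cancel₀ hq0
    rw [one_mul]
    conv_rhs => rw [hc, hh]
    ring
  · rw [top_inf_eq]
    intro hbot
    have h1 : mk h p ∈ C := by
      show mk h q * mk h p = 0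
      rw [mul_comm, hpq0]
    rw [hbot, Submodule.mem_bot, mk_eq_zero] at h1
    obtain ⟨c, hc⟩ := h1
    apply hq
    refine IsUnit.of_mul_eq_one c ?_
    apply mul_right_cancel₀ hp0
    rw [one_mul]
    conv_rhs => rw [hc, hh]
    ring

/-- A monic polynomial of positive degree is a power of an irreducible, or `kapR` vanishes. -/
theorem kapR_eq_zero_or [Finite F] (B : F[X] → ℂ)
    (hB : ∀ p q : F[X], p.Monic → q.Monic → B (p * q) = B p + B q)
    {h : F[X]} (hh : h.Monic) (hdeg : 0 < h.natDegree) :
    (∃ (f : F[X]) (m : ℕ), f.Monic ∧ Irreducible f ∧ 0 < m ∧ h = f ^ m) ∨ kapR B h hh = 0 := by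
  have hnu : ¬ IsUnit h := by
    intro h1
    rw [hh.isUnit_iff] at h1
    rw [h1, natDegree_one] at hdeg
    exact lt_irrefl _ hdeg
  obtain ⟨f, hf, hirr, hfh⟩ := exists_monic_irreducible_factor h hnu
  obtain ⟨m, c, hndvd, hc⟩ := WfDvdMonoid.max_power_factor hh.ne_zero hirr
  have hm : 0 < m := by
    rcases Nat.eq_zero_or_pos m with h0 | h0
    · exfalso
      apply hndvd
      rw [h0, pow_zero, one_mul] at hc
      rwa [← hc]
    · exact h0
  have hcm : c.Monic := by
    rw [hc] at hh
    exact (hf.pow m).of_mul_monic_left hh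
  by_cases hcu : IsUnit c
  · left
    refine ⟨f, m, hf, hirr, hm, ?_⟩
    rw [hcm.isUnit_iff] at hcu
    rw [hc, hcu, mul_one]
  · right
    subst hc
    refine kapR_coprime B hB hh ?_ hcu ?_
    · intro h
      exact hirr.not_isUnit ((isUnit_pow_iff hm.ne').1 h)
    · exact ((hirr.coprime_iff_not_dvd).2 hndvd).pow_left

end adjoin

end Cfsg.Agent.H139.Cusp
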